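import Groth.Agent.Pi1Eff.Along
import Groth.Agent.Pi1Desc.Radicial
import Groth.Agent.Pi1Desc.FiniteFlat
import Mathlib.Topology.Spectral.ConstructibleTopology

/-!
# Pieces: from quasi-compact separated etale data to separated etale data
-/

universe u

set_option autoImplicit false
set_option backward.isDefEq.respectTransparency false
set_option linter.style.haveILetI false

open CategoryTheory Limits AlgebraicGeometry TopologicalSpace

namespace Groth.Pi1EtDesc

open Groth.Pi1Desc

variable {V X S : Scheme.{u}} {h : V ⟶ X} {p : X ⟶ S}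

theorem effEtOn_of_restrict (A : Act h p) {W : V.Opens} (hW : A.Stable W) (hE : EffEt (A.restrict hW)) :
    EffEtOn A W := by
  obtain ⟨U, π, q, hπ, hpb, hcompat⟩ := hE
  refine ⟨U, π, q, ⟨hpb, fun T w w' e he => ?_⟩, hπ⟩
  have e' : w ≫ (W.ι ≫ h) ≫ p = (w' ≫ W.ι ≫ h) ≫ p := by simpa using e
  rw [← hcompat T w _ e']
  congr 1
  rw [← cancel_mono W.ι]
  exact he.symm.trans (IsOpenImmersion.lift_fac _ _ _).symm

/-- Separated data descend if they are covered by stable quasi-compact opens. -/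
theorem effAlong_sepEt_of_pieces [IsUS p] [QuasiSeparatedSpace X] (hqc : EffAlong sepEtQC p)
    (H : ∀ ⦃V : Scheme.{u}⦄ (h : V ⟶ X), sepEt h → ∀ A : Act h p, ∀ v : V,
      ∃ W : V.Opens, v ∈ W ∧ A.Stable W ∧ IsCompact (W : Set V)) : EffAlong sepEt p := by
  intro V h hh A
  haveI : Etale h := hh.1
  haveI : IsSeparated h := hh.2
  refine effEt_of_cover fun v => ?_
  obtain ⟨W, hvW, hW, hWc⟩ := H h hh A v
  haveI : CompactSpace W.toScheme := isCompact_iff_compactSpace.mp hWc
  refine ⟨W, hvW, hW, effEtOn_of_restrict A hW (hqc _ ⟨⟨inferInstance, inferInstance⟩, ?_⟩ _)⟩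
  exact quasiCompact_of_compactSpace (W.ι ≫ h)

section Open

variable (A : Act h p)

theorem inv_d₁' : (pullback.lift A.σ (A.d₁ ≫ h) (by
    rw [A.act_hom_assoc, Category.assoc]; exact pullback.condition.symm) : pullback (h ≫ p) p ⟶ _) ≫ A.d₁ = A.σ :=
  pullback.lift_fst _ _ _

variable [UniversallyOpen p]

theorem isOpenMap_σ : IsOpenMap A.σ := by
  let i : pullback (h ≫ p) p ⟶ pullback (h ≫ p) p := pullback.lift A.σ (A.d₁ ≫ h) (by
    rw [A.act_hom_assoc, Category.assoc]; exact pullback.condition.symm)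
  have h1 : i ≫ A.σ = A.d₁ := by
    rw [← A.act_eq_lift_σ, A.act_act _ _ _ _ (Category.assoc _ _ _).symm, A.act_self _ _ _ rfl]
  have h2 : i ≫ i = 𝟙 _ := by
    apply pullback.hom_ext
    · rw [Category.assoc, inv_d₁', Category.id_comp]; exact h1
    · rw [Category.assoc, Category.id_comp]
      conv_lhs => arg 2; rw [pullback.lift_snd]
      rw [← Category.assoc, inv_d₁']
      exact A.act_hom _ _ _
  haveI : IsIso i := ⟨i, h2, h2⟩
  haveI : UniversallyOpen A.d₁ := MorphismProperty.pullback_fst _ _ ‹UniversallyOpen p›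
  rw [show A.σ = i ≫ A.d₁ from (inv_d₁' A).symm]
  exact (i ≫ A.d₁).isOpenMap

/-- The smallest stable open containing `U`. -/
def satOpen (U : V.Opens) : V.Opens :=
  ⟨A.σ '' (A.d₁ ⁻¹' (U : Set V)), isOpenMap_σ A _ (U.isOpen.preimage A.d₁.continuous)⟩

theorem stable_satOpen (U : V.Opens) : A.Stable (satOpen A U) := by
  intro T v x e hv t
  obtain ⟨r, hr : A.d₁ r ∈ U, hrv⟩ := hv t
  obtain ⟨z, hz₁, hz₂⟩ := Scheme.Pullback.exists_preimage_pullback (f := v) (g := A.σ) t r hrv.symm
  let g := pullback.fst v A.σ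
  let s := pullback.snd v A.σ
  have hc : g ≫ v = s ≫ A.σ := pullback.condition
  have e₁ : (s ≫ A.d₁) ≫ h ≫ p = (g ≫ x) ≫ p := by
    rw [Category.assoc g, ← e, reassoc_of% hc, A.act_hom_assoc, Category.assoc]
    exact congrArg (s ≫ ·) pullback.condition
  have key : pullback.lift (s ≫ A.d₁) (g ≫ x) e₁ ≫ A.σ = g ≫ A.act v x e := by
    have e₂ : (s ≫ A.d₁) ≫ h ≫ p = (s ≫ pullback.snd (h ≫ p) p) ≫ p := by
      simp only [Category.assoc, pullback.condition]
    rw [← A.act_eq_lift_σ, A.comp_act]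
    refine (A.act_act _ (s ≫ pullback.snd (h ≫ p) p) _ e₂ e₁ ?_).symm.trans (A.congr ?_ rfl _ _)
    · rw [A.act_hom_assoc, ← e₂]; exact e₁
    · rw [← A.comp_act s _ _ pullback.condition]; exact hc.symm
  refine ⟨pullback.lift (s ≫ A.d₁) (g ≫ x) e₁ z, ?_, ?_⟩
  · change A.d₁ _ ∈ U
    rw [← Scheme.Hom.comp_apply, pullback.lift_fst, Scheme.Hom.comp_apply, hz₂]
    exact hr
  · rw [← Scheme.Hom.comp_apply, key, Scheme.Hom.comp_apply, hz₁]

end Open

/-- Along quasi-compact universally open surjections. -/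
theorem effAlong_sepEt_of_universallyOpen [UniversallyOpen p] [Surjective p] [QuasiCompact p]
    [QuasiSeparatedSpace X] (hqc : EffAlong sepEtQC p) : EffAlong sepEt p := by
  refine effAlong_sepEt_of_pieces hqc fun V h hh A v => ?_
  obtain ⟨_, ⟨U, hU, rfl⟩, hvU, -⟩ :=
    V.isBasis_affineOpens.exists_subset_of_mem_open (Set.mem_univ v) isOpen_univ
  refine ⟨satOpen A U, ?_, stable_satOpen A U, ?_⟩
  · obtain ⟨r, h1, h2⟩ := A.exists_σ_eq v
    exact ⟨r, show A.d₁ r ∈ U from h1 ▸ hvU, h2⟩
  · haveI : QuasiCompact A.d₁ := MorphismProperty.pullback_fst _ _ ‹QuasiCompact p›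
    exact (A.d₁.isCompact_preimage hU.isCompact).image A.σ.continuous

open Topology in
/-- Constructible subsets of spectral spaces are quasi-compact. -/
theorem isCompact_of_isConstructible {Y : Type u} [TopologicalSpace Y] [CompactSpace Y] [QuasiSober Y]
    [PrespectralSpace Y] [QuasiSeparatedSpace Y] {s : Set Y} (hs : IsConstructible s) : IsCompact s := by
  let ι : WithConstructibleTopology Y → Y := WithTopology.ofTopology
  suffices H : IsClopen (ι ⁻¹' s) by
    have hc : Continuous ι :=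
      by
        refine PrespectralSpace.isTopologicalBasis.continuous_iff.2 fun U hU => ?_
        exact WithConstructibleTopology.isOpen_iff.2 (hU.2.isOpen_constructibleTopology_of_isOpen hU.1)
    have := H.1.isCompact.image hc
    rwa [Set.image_preimage_eq _ (fun y => ⟨WithTopology.toTopology _ y, rfl⟩)] at this
  induction hs using IsConstructible.empty_union_induction with
  | open_retrocompact U ho hr =>
    refine ⟨⟨WithConstructibleTopology.isOpen_iff.2 ?_⟩,
      WithConstructibleTopology.isOpen_iff.2 (hr.isCompact.isOpen_constructibleTopology_of_isOpen ho)⟩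
    exact IsCompact.isOpen_constructibleTopology_of_isClosed (s := Uᶜ) (by rw [compl_compl]; exact hr.isCompact)
      ho.isClosed_compl
  | union s _ t _ hs ht => rw [Set.preimage_union]; exact hs.union ht
  | compl s _ hs => rw [Set.preimage_compl]; exact hs.compl

/-- The largest stable open in an open, for universally closed morphisms. -/
def coreOpen [UniversallyClosed p] (A : Act h p) (O : V.Opens) : V.Opens :=
  haveI : UniversallyClosed A.d₁ := MorphismProperty.pullback_fst _ _ ‹UniversallyClosed p›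
  ⟨(A.d₁ '' (A.σ ⁻¹' (O : Set V))ᶜ)ᶜ,
    (A.d₁.isClosedMap _ (O.isOpen.preimage A.σ.continuous).isClosed_compl).isOpen_compl⟩

theorem mem_coreOpen [UniversallyClosed p] (A : Act h p) {O : V.Opens} {v : V} :
    v ∈ coreOpen A O ↔ ∀ r, A.d₁ r = v → A.σ r ∈ O := by
  change v ∉ A.d₁ '' _ ↔ _
  exact ⟨fun hn r hr => by_contra fun hr' => hn ⟨r, hr', hr⟩, fun H ⟨r, hr', hr⟩ => hr' (H r hr)⟩

theorem stable_coreOpen [UniversallyClosed p] (A : Act h p) (O : V.Opens) : A.Stable (coreOpen A O) := by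
  intro T v x e hv t
  rw [mem_coreOpen]
  intro r hr
  obtain ⟨z, hz₁, hz₂⟩ := Scheme.Pullback.exists_preimage_pullback (f := A.act v x e) (g := A.d₁) t r hr.symm
  let g := pullback.fst (A.act v x e) A.d₁
  let s := pullback.snd (A.act v x e) A.d₁
  have e' : (g ≫ v) ≫ h ≫ p = (s ≫ pullback.snd (h ≫ p) p) ≫ p := by
    have hc : g ≫ A.act v x e = s ≫ A.d₁ := pullback.condition
    rw [Category.assoc, e, ← A.act_hom_assoc v x e p, reassoc_of% hc, Category.assoc]
    exact congrArg (s ≫ ·) pullback.condition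
  have key : pullback.lift (g ≫ v) (s ≫ pullback.snd (h ≫ p) p) e' ≫ A.σ = s ≫ A.σ := by
    rw [← A.act_eq_lift_σ, A.comp_act]
    have ex : (g ≫ v) ≫ h ≫ p = (g ≫ x) ≫ p := by rw [Category.assoc, e, Category.assoc]
    have hs : A.act (g ≫ v) (g ≫ x) ex = s ≫ A.d₁ := by rw [← A.comp_act g v x e]; exact pullback.condition
    refine (A.act_act (g ≫ v) (g ≫ x) (s ≫ pullback.snd (h ≫ p) p) ex e' ?_).symm.trans (A.congr hs rfl _ _)
    rw [A.act_hom_assoc, ← ex]; exact e'
  have := (mem_coreOpen A).1 (hv t) (pullback.lift (g ≫ v) (s ≫ pullback.snd (h ≫ p) p) e' z) (by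
    rw [← Scheme.Hom.comp_apply, pullback.lift_fst, Scheme.Hom.comp_apply]
    exact congrArg v hz₁)
  rwa [← Scheme.Hom.comp_apply, key, Scheme.Hom.comp_apply, hz₂] at this

open Topology in
/-- Along proper surjections of finite presentation. -/
theorem effAlong_sepEt_of_proper [IsProper p] [Surjective p] [LocallyOfFinitePresentation p]
    [QuasiSeparatedSpace X] (hqc : EffAlong sepEtQC p) : EffAlong sepEt p := by
  refine effAlong_sepEt_of_pieces hqc fun V h hh A v => ?_
  haveI : IsSeparated h := hh.2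
  haveI : QuasiSeparatedSpace V := quasiSeparatedSpace_of_quasiSeparated h
  haveI : IsProper A.d₁ := MorphismProperty.pullback_fst _ _ ‹IsProper p›
  haveI : LocallyOfFinitePresentation A.d₁ := MorphismProperty.pullback_fst _ _ ‹LocallyOfFinitePresentation p›
  obtain ⟨_, ⟨U, hU, rfl⟩, hvU, -⟩ :=
    V.isBasis_affineOpens.exists_subset_of_mem_open (Set.mem_univ v) isOpen_univ
  -- the saturation of a compact neighbourhood is contained in a compact open
  have hK : IsCompact (A.σ '' (A.d₁ ⁻¹' (U : Set V))) :=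
    (A.d₁.isCompact_preimage hU.isCompact).image A.σ.continuous
  obtain ⟨t, ht⟩ := hK.elim_finite_subcover (fun W : V.affineOpens => ((W : V.Opens) : Set V))
    (fun W => W.1.isOpen) fun y _ => by
      obtain ⟨_, ⟨W, hW, rfl⟩, hyW, -⟩ :=
        V.isBasis_affineOpens.exists_subset_of_mem_open (Set.mem_univ y) isOpen_univ
      exact Set.mem_iUnion.2 ⟨⟨W, hW⟩, hyW⟩
  let W' : V.Opens := ⟨⋃ W ∈ t, ((W : V.Opens) : Set V), isOpen_biUnion fun W _ => W.1.isOpen⟩
  have hW'c : IsCompact (W' : Set V) := t.isCompact_biUnion fun W _ => W.2.isCompact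
  refine ⟨coreOpen A W', ?_, stable_coreOpen A W', ?_⟩
  · exact (mem_coreOpen A).2 fun r hr => ht ⟨r, show A.d₁ r ∈ U from hr ▸ hvU, rfl⟩
  · have hle : coreOpen A W' ≤ W' := fun w hw => by
      obtain ⟨r, h1, h2⟩ := A.exists_σ_eq w
      exact h2 ▸ (mem_coreOpen A).1 hw r h1
    haveI : CompactSpace W'.toScheme := isCompact_iff_compactSpace.mp hW'c
    haveI : QuasiSeparatedSpace W'.toScheme :=
      (W'.ι.isOpenEmbedding.quasiSeparatedSpace)
    let R' : (pullback (h ≫ p) p).Opens := A.d₁ ⁻¹ᵁ W'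
    haveI : QuasiCompact (A.d₁ ∣_ W') := IsZariskiLocalAtTarget.restrict (inferInstance : QuasiCompact A.d₁) W'
    have hs : IsConstructible ((R'.ι ≫ A.σ) ⁻¹' (W' : Set V))ᶜ :=
      ((R'.ι ≫ A.σ).isConstructible_preimage (hW'c.isConstructible W'.isOpen)).compl
    have hC := isCompact_of_isConstructible ((A.d₁ ∣_ W').isConstructible_image hs).compl
    convert hC.image W'.ι.continuous
    ext w
    constructor
    · intro hw
      refine ⟨⟨w, hle hw⟩, fun hr' => ?_, rfl⟩
      obtain ⟨r, hr, hrw⟩ := hr'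
      refine hr ((mem_coreOpen A).1 hw (R'.ι r) ?_)
      rw [← Scheme.Hom.comp_apply, ← morphismRestrict_ι, Scheme.Hom.comp_apply, hrw]
      rfl
    · rintro ⟨w', hw', rfl⟩
      refine (mem_coreOpen A).2 fun r hr => by_contra fun hn => hw' ?_
      have hrR : r ∈ R' := show A.d₁ r ∈ W' from hr.symm ▸ w'.2
      refine ⟨⟨r, hrR⟩, hn, W'.ι.isOpenEmbedding.injective ?_⟩
      rw [← Scheme.Hom.comp_apply, morphismRestrict_ι, Scheme.Hom.comp_apply]
      exact hr

end Groth.Pi1EtDesc
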