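import Groth.Agent.Pi1EtDesc.FpqcEff

/-!
# Morphisms along which descent of etale schemes is effective
-/

universe u

set_option autoImplicit false
set_option backward.isDefEq.respectTransparency false
set_option linter.style.haveILetI false

open CategoryTheory Limits AlgebraicGeometry TopologicalSpace

namespace Groth.Pi1EtDesc

open Groth.Pi1Desc

variable {V X S S₁ : Scheme.{u}} {h : V ⟶ X} {p : X ⟶ S}

instance (priority := 900) isUS_of_flat (p : X ⟶ S) [Flat p] [Surjective p] [QuasiCompact p] : IsUS p :=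
  ⟨fun _ _ _ _ f sq => by
    haveI : Flat f := MorphismProperty.of_isPullback sq.flip ‹Flat p›
    haveI : Surjective f := MorphismProperty.of_isPullback sq.flip ‹Surjective p›
    haveI : QuasiCompact f := MorphismProperty.of_isPullback sq.flip ‹QuasiCompact p›
    exact Flat.isQuotientMap_of_surjective f⟩

instance (priority := 800) isUS_of_universallyOpen (p : X ⟶ S) [UniversallyOpen p] [Surjective p] : IsUS p :=
  ⟨fun _ _ _ _ f sq => by
    haveI : UniversallyOpen f := MorphismProperty.of_isPullback sq.flip ‹UniversallyOpen p›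
    haveI : Surjective f := MorphismProperty.of_isPullback sq.flip ‹Surjective p›
    exact f.isOpenMap.isQuotientMap f.continuous f.surjective⟩

instance (priority := 800) isUS_of_universallyClosed (p : X ⟶ S) [UniversallyClosed p] [Surjective p] : IsUS p :=
  ⟨fun _ _ _ _ f sq => by
    haveI : UniversallyClosed f := MorphismProperty.of_isPullback sq.flip ‹UniversallyClosed p›
    haveI : Surjective f := MorphismProperty.of_isPullback sq.flip ‹Surjective p›
    exact f.isClosedMap.isQuotientMap f.continuous f.surjective⟩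

theorem surjective_of_isUS (p : X ⟶ S) [IsUS p] : Surjective p :=
  ⟨(MorphismProperty.universally_le _ _ (IsUS.us : SGA1.UnivSubmersive p) :
    Topology.IsQuotientMap p.base).surjective⟩

theorem isUS_comp {Y : Scheme.{u}} (f : Y ⟶ X) (p : X ⟶ S) [IsUS f] [IsUS p] : IsUS (f ≫ p) :=
  haveI : (topologically fun {α β} [TopologicalSpace α] [TopologicalSpace β] (f : α → β) =>
      Topology.IsQuotientMap f).IsStableUnderComposition :=
    topologically_isStableUnderComposition _ fun _ _ hf hg => hg.comp hf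
  haveI : (SGA1.UnivSubmersive.{u}).IsStableUnderComposition :=
    inferInstanceAs (MorphismProperty.universally _).IsStableUnderComposition
  ⟨MorphismProperty.comp_mem _ _ _ IsUS.us IsUS.us⟩

/-- Etale and separated. -/
def sepEt : MorphismProperty Scheme.{u} := @Etale ⊓ @IsSeparated

/-- Etale, separated and quasi-compact. -/
def sepEtQC : MorphismProperty Scheme.{u} := @Etale ⊓ @IsSeparated ⊓ @QuasiCompact

instance : (sepEt.{u}).IsStableUnderBaseChange :=
  inferInstanceAs (@Etale ⊓ @IsSeparated : MorphismProperty Scheme.{u}).IsStableUnderBaseChange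

instance : (sepEtQC.{u}).IsStableUnderBaseChange :=
  inferInstanceAs (@Etale ⊓ @IsSeparated ⊓ @QuasiCompact : MorphismProperty Scheme.{u}).IsStableUnderBaseChange

/-- Descent data whose underlying morphism satisfies `P` are effective along `p`. -/
def EffAlong (P : MorphismProperty Scheme.{u}) (p : X ⟶ S) : Prop :=
  ∀ ⦃V : Scheme.{u}⦄ (h : V ⟶ X), P h → ∀ A : Act h p, EffEt A

/-- A datum along a morphism with a section has the pullback along the section as a quotient. -/
theorem effWith_of_section (A : Act h p) (σ : S ⟶ X) (hσ : σ ≫ p = 𝟙 S) :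
    EffWith A (pullback.snd h σ) := by
  have e₀ : 𝟙 V ≫ h ≫ p = (h ≫ p ≫ σ) ≫ p := by simp [hσ]
  let q : V ⟶ pullback h σ := pullback.lift (A.act (𝟙 V) (h ≫ p ≫ σ) e₀) (h ≫ p)
    (by rw [A.act_hom, Category.assoc])
  have hq₁ : q ≫ pullback.fst h σ = A.act (𝟙 V) (h ≫ p ≫ σ) e₀ := pullback.lift_fst _ _ _
  have hq₂ : q ≫ pullback.snd h σ = h ≫ p := pullback.lift_snd _ _ _
  refine ⟨q, ?_, fun T v x e => ?_⟩
  · let c : V ⟶ pullback (pullback.snd h σ) p := pullback.lift q h hq₂
    have e₁ : (pullback.fst (pullback.snd h σ) p ≫ pullback.fst h σ) ≫ h ≫ p =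
        pullback.snd (pullback.snd h σ) p ≫ p := by
      rw [Category.assoc, pullback.condition_assoc, hσ, Category.comp_id, pullback.condition]
    let d := A.act _ _ e₁
    have hd : d ≫ h = pullback.snd (pullback.snd h σ) p := A.act_hom _ _ _
    have hdc : d ≫ c = 𝟙 _ := by
      refine pullback.hom_ext ?_ (by simp [c, hd])
      rw [Category.assoc, pullback.lift_fst, Category.id_comp]
      refine pullback.hom_ext ?_ ?_
      · rw [Category.assoc, hq₁, A.comp_act]
        refine (A.congr (Category.comp_id _) (by rw [reassoc_of% hd, ← pullback.condition_assoc]) _ ?_).trans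
          ((A.act_act _ _ (pullback.fst (pullback.snd h σ) p ≫ pullback.snd h σ ≫ σ) e₁ ?_ ?_).trans
            (A.act_self _ _ _ ?_))
        · simp only [d, A.act_hom_assoc]
          rw [pullback.condition_assoc]; simp [hσ]
        · rw [Category.assoc, Category.assoc, Category.assoc, pullback.condition_assoc]
        · rw [A.act_hom_assoc, Category.assoc, Category.assoc, hσ, Category.comp_id, pullback.condition]
        · rw [Category.assoc, pullback.condition]
      · rw [Category.assoc, hq₂, reassoc_of% hd, pullback.condition]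
    have hcd : c ≫ d = 𝟙 V := by
      rw [A.comp_act]
      refine (A.congr (v' := A.act (𝟙 V) (h ≫ p ≫ σ) e₀) (x' := h) ?_ (pullback.lift_snd _ _ _) _ ?_).trans
        ((A.act_act _ _ _ e₀ (by simp) ?_).trans (A.act_self _ _ _ (Category.id_comp _)))
      · rw [pullback.lift_fst_assoc, hq₁]
      · rw [A.act_hom_assoc, Category.assoc, Category.assoc, hσ, Category.comp_id]
      · rw [A.act_hom_assoc, Category.assoc, Category.assoc, hσ, Category.comp_id]
    haveI : IsIso c := ⟨d, hcd, hdc⟩
    exact IsPullback.of_iso_pullback ⟨hq₂⟩ (asIso c) (pullback.lift_fst _ _ _) (pullback.lift_snd _ _ _)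
  · refine pullback.hom_ext ?_ (by rw [Category.assoc, Category.assoc, hq₂, A.act_hom_assoc, e])
    simp only [Category.assoc, hq₁]
    rw [A.comp_act, A.comp_act]
    refine (A.congr (Category.comp_id _) (x' := v ≫ h ≫ p ≫ σ) ?_ _ ?_).trans
      ((A.act_act v x _ e ?_ ?_).trans (A.congr (Category.comp_id _).symm rfl _ _))
    · rw [A.act_hom_assoc, reassoc_of% e]
    all_goals simp [hσ, e, A.act_hom_assoc]

variable {b : S₁ ⟶ S} {A : Act h p} {U₁ : Scheme.{u}} {π₁ : U₁ ⟶ S₁}
  {q₁ : pullback h (pullback.fst p b) ⟶ U₁}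
  (hq : IsPullback q₁ (pullback.snd h (pullback.fst p b)) π₁ (pullback.snd p b))
  (hc : ∀ (T : Scheme.{u}) (v : T ⟶ pullback h (pullback.fst p b)) (x : T ⟶ pullback p b)
    (e : v ≫ pullback.snd h (pullback.fst p b) ≫ pullback.snd p b = x ≫ pullback.snd p b),
    (actBC A b).act v x e ≫ q₁ = v ≫ q₁)

set_option maxHeartbeats 800000 in
/-- A datum descends if it does after a universally submersive base change along which the descended
datum on the quotient is effective. -/
theorem effEt_of_baseChange [IsUS p] [IsUS b] [Etale π₁] [Etale h]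
    (hU : EffEt (quotAct hq hc)) : EffEt A := by
  haveI : (SGA1.UnivSubmersive.{u}).IsStableUnderBaseChange :=
    inferInstanceAs (MorphismProperty.universally _).IsStableUnderBaseChange
  obtain ⟨U, π, r, hπ, hr, hrc⟩ := hU
  let w := pullback.fst h (pullback.fst p b)
  let h₁ := pullback.snd h (pullback.fst p b)
  let p₁ := pullback.snd p b
  have sqV : IsPullback w (h₁ ≫ p₁) (h ≫ p) b :=
    (IsPullback.of_hasPullback h (pullback.fst p b)).paste_vert (IsPullback.of_hasPullback p b)
  have hwUS : SGA1.UnivSubmersive w := MorphismProperty.of_isPullback sqV.flip IsUS.us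
  have hf₀ : (q₁ ≫ r) ≫ π = w ≫ h ≫ p := by
    rw [Category.assoc, hr.w, reassoc_of% hq.w, sqV.w, Category.assoc]
  have hf : ∀ {T : Scheme.{u}} (t₁ t₂ : T ⟶ pullback h (pullback.fst p b)), t₁ ≫ w = t₂ ≫ w →
      t₁ ≫ q₁ ≫ r = t₂ ≫ q₁ ≫ r := by
    intro T t₁ t₂ ht
    have e : (t₁ ≫ q₁) ≫ π₁ ≫ b = (t₂ ≫ h₁ ≫ p₁) ≫ b := by
      rw [Category.assoc, reassoc_of% hq.w]
      simp only [Category.assoc]
      have := sqV.w
      simp only [Category.assoc] at this
      rw [← this, reassoc_of% ht]
    have h1 := (quotAct_spec hq hc _ _ e).2 T (𝟙 T) t₁ t₂ (Category.id_comp _).symm ht.symm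
      (Category.id_comp _).symm
    rw [Category.id_comp] at h1
    have h2 := hrc _ _ _ e
    rw [← h1] at h2
    simpa using h2.symm
  haveI : Etale (pullback.fst (h ≫ p) π) := MorphismProperty.pullback_fst _ _ hπ
  obtain ⟨s, ⟨hs, hsσ⟩, -⟩ := Groth.Agent.S3709.existsUnique_section w hwUS (pullback.fst (h ≫ p) π)
    (pullback.lift w (q₁ ≫ r) hf₀.symm) (pullback.lift_fst _ _ _) fun t₁ t₂ ht => by
      apply pullback.hom_ext
      · simpa using ht
      · simpa using hf t₁ t₂ ht
  let q := s ≫ pullback.snd (h ≫ p) π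
  have hwq : w ≫ q = q₁ ≫ r := by rw [reassoc_of% hsσ, pullback.lift_snd]
  have hqπ : q ≫ π = h ≫ p := by
    rw [Category.assoc, ← pullback.condition, reassoc_of% hs]
  refine ⟨U, π, q, hπ, ?_, fun T v x e => ?_⟩
  · let c : V ⟶ pullback π p := pullback.lift q h hqπ
    suffices IsIso c from IsPullback.of_iso_pullback ⟨hqπ⟩ (asIso c) (pullback.lift_fst _ _ _) (pullback.lift_snd _ _ _)
    let m : pullback π₁ p₁ ⟶ pullback π p :=
      pullback.lift (pullback.fst _ _ ≫ r) (pullback.snd _ _ ≫ pullback.fst p b) (by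
        rw [Category.assoc, hr.w, pullback.condition_assoc, Category.assoc, pullback.condition])
    have sqm : IsPullback m (pullback.snd π₁ p₁) (pullback.snd π p) (pullback.fst p b) := by
      refine IsPullback.of_right (h₁₂ := pullback.fst π p) (h₂₂ := p) ?_ (pullback.lift_snd _ _ _)
        (IsPullback.of_hasPullback π p)
      rw [pullback.lift_fst, pullback.condition]
      exact (IsPullback.of_hasPullback π₁ p₁).paste_horiz hr
    have sqc : IsPullback w hq.isoPullback.hom c m := by
      refine IsPullback.of_bot ?_ ?_ sqm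
      · rw [hq.isoPullback_hom_snd, pullback.lift_snd]
        exact IsPullback.of_hasPullback h (pullback.fst p b)
      · apply pullback.hom_ext
        · simp only [m, c, Category.assoc, pullback.lift_fst, hwq]
          rw [← Category.assoc hq.isoPullback.hom, hq.isoPullback_hom_fst]
        · simp only [m, c, Category.assoc, pullback.lift_snd]
          rw [← Category.assoc hq.isoPullback.hom, hq.isoPullback_hom_snd]
          exact pullback.condition
    haveI : Surjective m := MorphismProperty.of_isPullback sqm.flip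
      (MorphismProperty.of_isPullback (IsPullback.of_hasPullback p b).flip (surjective_of_isUS b))
    haveI : Surjective c := by
      haveI : Surjective (w ≫ c) := by rw [sqc.w]; infer_instance
      exact Surjective.of_comp w c
    haveI : UniversallyInjective c :=
      MorphismProperty.of_isPullback_of_descendsAlong (P := @UniversallyInjective) (Q := @Surjective)
        sqc.flip ‹Surjective m› inferInstance
    haveI : Etale (pullback.snd π p) := MorphismProperty.pullback_snd _ _ hπ
    haveI : Etale (c ≫ pullback.snd π p) := by rw [pullback.lift_snd]; infer_instance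
    haveI : Etale c := Etale.of_comp c (pullback.snd π p)
    exact Groth.Agent.S3709.isIso_of_etale_universallyInjective_surjective c
  · let c₀ := pullback.fst (x ≫ p) b
    haveI : Surjective c₀ := MorphismProperty.pullback_fst _ _ (surjective_of_isUS b)
    haveI := hπ
    refine eq_of_comp_eq_of_surjective π c₀
      (by simp only [Category.assoc]; rw [show q ≫ π = h ≫ p from hqπ, A.act_hom_assoc, e]) ?_
    have e₁ : (c₀ ≫ v) ≫ h ≫ p = pullback.snd (x ≫ p) b ≫ b := by
      rw [Category.assoc, e]; exact pullback.condition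
    let z := mkPt b (c₀ ≫ v) (pullback.snd (x ≫ p) b) e₁
    let x₁ : pullback (x ≫ p) b ⟶ pullback p b :=
      pullback.lift (c₀ ≫ x) (pullback.snd (x ≫ p) b) (by rw [Category.assoc]; exact pullback.condition)
    have e₂ : z ≫ h₁ ≫ p₁ = x₁ ≫ p₁ := (mkPt_base _ _ _).trans (pullback.lift_snd _ _ _).symm
    have hact : (actBC A b).act z x₁ e₂ ≫ w = c₀ ≫ A.act v x e := by
      rw [Act.pullbackAct_w, A.comp_act]
      exact A.congr (mkPt_fst _ _ _) (pullback.lift_fst _ _ _) _ _
    rw [← reassoc_of% hact, hwq, ← Category.assoc, hc, Category.assoc, ← hwq,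
      reassoc_of% (mkPt_fst (b := b) (c₀ ≫ v) _ e₁)]

/-- Effectiveness may be checked on a refinement. -/
theorem effEt_of_dominated {P : MorphismProperty Scheme.{u}} [P.IsStableUnderBaseChange]
    (hP : P ≤ @Etale) (A : Act h p) {X' : Scheme.{u}} (f : X' ⟶ X) [IsUS p] [IsUS (f ≫ p)] (hh : P h)
    (hb : EffAlong P (f ≫ p)) : EffEt A := by
  let σ : X' ⟶ pullback p (f ≫ p) := pullback.lift f (𝟙 X') (Category.id_comp _).symm
  have hσ : σ ≫ pullback.snd p (f ≫ p) = 𝟙 X' := pullback.lift_snd _ _ _
  obtain ⟨q, hq, hc⟩ := effWith_of_section (actBC A (f ≫ p)) σ hσ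
  haveI := hP _ hh
  have hπP : P (pullback.snd (pullback.snd h (pullback.fst p (f ≫ p))) σ) :=
    MorphismProperty.pullback_snd _ _ (MorphismProperty.pullback_snd _ _ hh)
  haveI := hP _ hπP
  exact effEt_of_baseChange hq hc (hb _ hπP _)

/-- Effectiveness composes. -/
theorem effAlong_comp {P : MorphismProperty Scheme.{u}} [P.IsStableUnderBaseChange]
    (hP : P ≤ @Etale)
    (hdesc : ∀ ⦃V' X' U' T : Scheme.{u}⦄ (q : V' ⟶ U') (h' : V' ⟶ X') (π' : U' ⟶ T) (p' : X' ⟶ T),
      IsPullback q h' π' p' → Etale π' → IsUS p' → QuasiCompact p' → P h' → P π')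
    {Y : Scheme.{u}} (c : X ⟶ Y) (d : Y ⟶ S) [IsUS c] [IsUS d] [QuasiCompact c] [QuasiCompact d]
    (hc : EffAlong P c) (hd : EffAlong P d) : EffAlong P (c ≫ d) := by
  intro V h hh A
  haveI := isUS_comp c d
  haveI : QuasiCompact (c ≫ d) := inferInstance
  haveI := isUS_of_isPullback (IsPullback.of_hasPullback (c ≫ d) d)
  let σ : X ⟶ pullback (c ≫ d) d := pullback.lift (𝟙 X) c (Category.id_comp _)
  have hσ : σ ≫ pullback.snd (c ≫ d) d = c := pullback.lift_snd _ _ _
  haveI : IsUS (σ ≫ pullback.snd (c ≫ d) d) := hσ.symm ▸ ‹IsUS c›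
  have hh₁ : P (pullback.snd h (pullback.fst (c ≫ d) d)) := MorphismProperty.pullback_snd _ _ hh
  obtain ⟨U₁, π₁, q₁, hπ₁, hq₁, hc₁⟩ := effEt_of_dominated hP (actBC A d) σ hh₁ (hσ.symm ▸ hc)
  haveI := hP _ hh
  haveI := hπ₁
  exact effEt_of_baseChange hq₁ hc₁
    (hd _ (hdesc _ _ _ _ hq₁ hπ₁ inferInstance inferInstance hh₁) _)

theorem sepEt_desc ⦃V' X' U' T : Scheme.{u}⦄ (q : V' ⟶ U') (h' : V' ⟶ X') (π' : U' ⟶ T) (p' : X' ⟶ T)
    (sq : IsPullback q h' π' p') (hπ : Etale π') (hp : IsUS p') (_ : QuasiCompact p') (hh : sepEt h') :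
    sepEt π' :=
  haveI := hp
  haveI : IsSeparated h' := hh.2
  ⟨hπ, isSeparated_of_quot sq⟩

theorem sepEtQC_desc ⦃V' X' U' T : Scheme.{u}⦄ (q : V' ⟶ U') (h' : V' ⟶ X') (π' : U' ⟶ T) (p' : X' ⟶ T)
    (sq : IsPullback q h' π' p') (hπ : Etale π') (hp : IsUS p') (_ : QuasiCompact p') (hh : sepEtQC h') :
    sepEtQC π' :=
  haveI := hp
  haveI : IsSeparated h' := hh.1.2
  haveI : QuasiCompact h' := hh.2
  haveI := surjective_of_isUS p'
  ⟨⟨hπ, isSeparated_of_quot sq⟩, (quasiCompact_and_quasiSeparated_of_quot sq).1⟩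

/-- fpqc morphisms. -/
theorem effAlong_of_flat (p : X ⟶ S) [Flat p] [Surjective p] [QuasiCompact p] :
    EffAlong sepEtQC p := by
  rintro V h ⟨⟨hh₁, hh₂⟩, hh₃⟩ A
  haveI := hh₁; haveI := hh₂; haveI := hh₃
  haveI : LocallyQuasiFinite h := Groth.DescentBase.locallyQuasiFinite_of_etale _
  obtain ⟨U, π, q, hpb, hc⟩ := Act.eff_of_isQuasiAffineHom (isQuasiAffineHom_of_locallyQuasiFinite h) A
  have hQ : (@Surjective ⊓ @Flat ⊓ @QuasiCompact : MorphismProperty Scheme.{u}) p :=
    ⟨⟨inferInstance, inferInstance⟩, inferInstance⟩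
  exact ⟨U, π, q, MorphismProperty.of_isPullback_of_descendsAlong hpb.flip hQ hh₁, hpb, hc⟩

end Groth.Pi1EtDesc
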