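import Mathlib.AlgebraicGeometry.Morphisms.Affine
import Mathlib.AlgebraicGeometry.Morphisms.ClosedImmersion
import Mathlib.AlgebraicGeometry.Morphisms.QuasiSeparated
import Mathlib.AlgebraicGeometry.AffineTransitionLimit

/-!
# Fibre products of systems of schemes
-/

universe u

set_option autoImplicit false
set_option backward.isDefEq.respectTransparency false
set_option backward.defeqAttrib.useBackward true

open CategoryTheory Limits AlgebraicGeometry

namespace Groth.Pi1EtDesc

variable {I : Type u} [SmallCategory I] {D₁ D₂ D₃ : I ⥤ Scheme.{u}} (α : D₁ ⟶ D₃) (β : D₂ ⟶ D₃)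

/-- The system of fibre products. -/
noncomputable def pbSys : I ⥤ Scheme.{u} where
  obj j := pullback (α.app j) (β.app j)
  map {i j} m := pullback.map _ _ _ _ (D₁.map m) (D₂.map m) (D₃.map m)
    (α.naturality m).symm (β.naturality m).symm
  map_id i := by apply pullback.hom_ext <;> simp
  map_comp m n := by apply pullback.hom_ext <;> simp

/-- First projection. -/
noncomputable def pbFst : pbSys α β ⟶ D₁ where
  app j := pullback.fst _ _
  naturality _ _ _ := pullback.lift_fst _ _ _

/-- Second projection. -/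
noncomputable def pbSnd : pbSys α β ⟶ D₂ where
  app j := pullback.snd _ _
  naturality _ _ _ := pullback.lift_snd _ _ _

@[simp]
theorem pbFst_app (j : I) : (pbFst α β).app j = pullback.fst _ _ := rfl

@[simp]
theorem pbSnd_app (j : I) : (pbSnd α β).app j = pullback.snd _ _ := rfl

theorem pbSys_map_fst {i j : I} (m : i ⟶ j) :
    (pbSys α β).map m ≫ pullback.fst (α.app j) (β.app j) = pullback.fst _ _ ≫ D₁.map m :=
  pullback.lift_fst _ _ _

theorem pbSys_map_snd {i j : I} (m : i ⟶ j) :
    (pbSys α β).map m ≫ pullback.snd (α.app j) (β.app j) = pullback.snd _ _ ≫ D₂.map m :=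
  pullback.lift_snd _ _ _

theorem isAffineHom_pbSys [∀ (i j : I) (m : i ⟶ j), IsAffineHom (D₁.map m)]
    [∀ (i j : I) (m : i ⟶ j), IsAffineHom (D₂.map m)]
    [∀ (i j : I) (m : i ⟶ j), IsAffineHom (D₃.map m)] (i j : I) (m : i ⟶ j) :
    IsAffineHom ((pbSys α β).map m) := by
  let d := pullback.mapDesc (α.app i) (β.app i) (D₃.map m)
  have e1 : α.app i ≫ D₃.map m = D₁.map m ≫ α.app j := (α.naturality m).symm
  have e2 : β.app i ≫ D₃.map m = D₂.map m ≫ β.app j := (β.naturality m).symm
  let n := pullback.map (α.app i ≫ D₃.map m) (β.app i ≫ D₃.map m) (α.app j) (β.app j)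
    (D₁.map m) (D₂.map m) (𝟙 _) (by rw [Category.comp_id, e1]) (by rw [Category.comp_id, e2])
  have : (pbSys α β).map m = d ≫ n := by
    apply pullback.hom_ext <;> simp [d, n, pbSys, pullback.mapDesc]
  rw [this]
  haveI : IsAffineHom n :=
    MorphismProperty.pullbackMap (P := @IsAffineHom) inferInstance inferInstance e1 e2
  infer_instance

theorem compactSpace_pbSys [∀ j, CompactSpace (D₁.obj j)] [∀ j, CompactSpace (D₂.obj j)]
    [∀ j, QuasiSeparatedSpace (D₃.obj j)] (j : I) : CompactSpace ((pbSys α β).obj j) :=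
  haveI : QuasiCompact (β.app j) := quasiCompact_of_compactSpace _
  QuasiCompact.compactSpace_of_compactSpace (pullback.fst (α.app j) (β.app j))

theorem quasiSeparatedSpace_pbSys [∀ j, QuasiSeparatedSpace (D₁.obj j)] [∀ j, QuasiSeparatedSpace (D₂.obj j)]
    (j : I) : QuasiSeparatedSpace ((pbSys α β).obj j) :=
  haveI : QuasiSeparated (β.app j) := by
    have : QuasiSeparated (β.app j ≫ terminal.from _) := by
      rw [terminalIsTerminal.hom_ext (β.app j ≫ terminal.from _) (terminal.from _),
        ← quasiSeparatedSpace_iff_quasiSeparated]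
      infer_instance
    exact QuasiSeparated.of_comp _ (terminal.from _)
  quasiSeparatedSpace_of_quasiSeparated (pullback.fst (α.app j) (β.app j))

variable (c₁ : Cone D₁) (c₂ : Cone D₂) (c₃ : Cone D₃) (a : c₁.pt ⟶ c₃.pt) (b : c₂.pt ⟶ c₃.pt)
  (ha : ∀ j, a ≫ c₃.π.app j = c₁.π.app j ≫ α.app j) (hb : ∀ j, b ≫ c₃.π.app j = c₂.π.app j ≫ β.app j)

/-- The cone of fibre products. -/
noncomputable def pbCone : Cone (pbSys α β) where
  pt := pullback a b
  π :=
    { app := fun j => pullback.map a b (α.app j) (β.app j) (c₁.π.app j) (c₂.π.app j) (c₃.π.app j)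
        (ha j) (hb j)
      naturality := fun i j m => by
        apply pullback.hom_ext <;> simp [pbSys, c₁.w, c₂.w] }

theorem pbCone_fst (j : I) : (pbCone α β c₁ c₂ c₃ a b ha hb).π.app j ≫ pullback.fst _ _ =
    pullback.fst a b ≫ c₁.π.app j := pullback.lift_fst _ _ _

theorem pbCone_snd (j : I) : (pbCone α β c₁ c₂ c₃ a b ha hb).π.app j ≫ pullback.snd _ _ =
    pullback.snd a b ≫ c₂.π.app j := pullback.lift_snd _ _ _

/-- It is a limit cone. -/
noncomputable def isLimitPbCone (h₁ : IsLimit c₁) (h₂ : IsLimit c₂) (h₃ : IsLimit c₃) :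
    IsLimit (pbCone α β c₁ c₂ c₃ a b ha hb) where
  lift s :=
    pullback.lift
      (h₁.lift ⟨s.pt, s.π ≫ pbFst α β⟩) (h₂.lift ⟨s.pt, s.π ≫ pbSnd α β⟩)
      (h₃.hom_ext fun j => by
        rw [Category.assoc, Category.assoc, ha, hb, h₁.fac_assoc, h₂.fac_assoc]
        simp [pullback.condition])
  fac s j := by
    apply pullback.hom_ext
    · rw [Category.assoc, pbCone_fst, pullback.lift_fst_assoc, h₁.fac]; rfl
    · rw [Category.assoc, pbCone_snd, pullback.lift_snd_assoc, h₂.fac]; rfl
  uniq s m hm := by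
    apply pullback.hom_ext
    · refine h₁.hom_ext fun j => ?_
      rw [pullback.lift_fst, h₁.fac]
      have := congrArg (· ≫ pullback.fst _ _) (hm j)
      simp only [Category.assoc, pbCone_fst] at this
      exact (Category.assoc _ _ _).trans this
    · refine h₂.hom_ext fun j => ?_
      rw [pullback.lift_snd, h₂.fac]
      have := congrArg (· ≫ pullback.snd _ _) (hm j)
      simp only [Category.assoc, pbCone_snd] at this
      exact (Category.assoc _ _ _).trans this

end Groth.Pi1EtDesc
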