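import Groth.Agent.Pi1Eff.Local
import Groth.Agent.Pi1Eff.Systems
import Groth.Agent.Pi1Desc.FiniteFlat
import Mathlib.AlgebraicGeometry.AffineTransitionLimit

/-!
# Descent data descend along limits of systems
-/

universe u

set_option autoImplicit false
set_option backward.isDefEq.respectTransparency false
set_option backward.defeqAttrib.useBackward true
set_option linter.style.haveILetI false

open CategoryTheory Limits AlgebraicGeometry

namespace Groth.Pi1EtDesc

open Groth.Pi1Desc

/-- An action from a map satisfying the unit and associativity equations. -/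
noncomputable def actOfMor {V X S : Scheme.{u}} {h : V ⟶ X} {p : X ⟶ S}
    (σ : pullback (h ≫ p) p ⟶ V) (h1 : σ ≫ h = pullback.snd _ _)
    (h2 : pullback.lift (𝟙 V) h (Category.id_comp _) ≫ σ = 𝟙 V)
    (h3 : pullback.lift (pullback.fst (pullback.snd (h ≫ p) p ≫ p) p ≫ σ) (pullback.snd _ _)
          (by rw [Category.assoc, reassoc_of% h1]; exact pullback.condition) ≫ σ =
      pullback.lift (pullback.fst (pullback.snd (h ≫ p) p ≫ p) p ≫ pullback.fst (h ≫ p) p) (pullback.snd _ _)
          (by rw [Category.assoc, pullback.condition]; exact pullback.condition) ≫ σ) : Act h p where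
  act v x e := pullback.lift v x e ≫ σ
  act_hom v x e := by rw [Category.assoc, h1, pullback.lift_snd]
  act_self v x e hx := by
    have : pullback.lift v x e = v ≫ pullback.lift (𝟙 V) h (Category.id_comp _) := by
      apply pullback.hom_ext <;> simp [hx]
    rw [this, Category.assoc, h2, Category.comp_id]
  act_act v x y e e' e'' := by
    let r := pullback.lift v x e
    have er : r ≫ pullback.snd (h ≫ p) p ≫ p = y ≫ p := by
      simp only [r, pullback.lift_snd_assoc]; rw [← e]; exact e'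
    let t := pullback.lift r y er
    have l1 : pullback.lift (r ≫ σ) y e'' = t ≫ pullback.lift
        (pullback.fst (pullback.snd (h ≫ p) p ≫ p) p ≫ σ) (pullback.snd _ _)
        (by rw [Category.assoc, reassoc_of% h1]; exact pullback.condition) := by
      apply pullback.hom_ext <;> simp [t]
    have l2 : pullback.lift v y e' = t ≫ pullback.lift
        (pullback.fst (pullback.snd (h ≫ p) p ≫ p) p ≫ pullback.fst (h ≫ p) p) (pullback.snd _ _)
        (by rw [Category.assoc, pullback.condition]; exact pullback.condition) := by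
      apply pullback.hom_ext <;> simp [t, r]
    show pullback.lift (r ≫ σ) y e'' ≫ σ = _
    rw [l1, l2]
    exact (Category.assoc _ _ _).trans ((congrArg (t ≫ ·) h3).trans (Category.assoc _ _ _).symm)
  act_comp g v x e e' := by
    rw [← Category.assoc]
    congr 1
    apply pullback.hom_ext <;> simp

variable {I : Type u} [SmallCategory I] [IsCofiltered I] {DV DX DS : I ⥤ Scheme.{u}}
  {η : DV ⟶ DX} {τ : DX ⟶ DS}
  [∀ (i j : I) (m : i ⟶ j), IsAffineHom (DV.map m)]
  [∀ (i j : I) (m : i ⟶ j), IsAffineHom (DX.map m)]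
  [∀ (i j : I) (m : i ⟶ j), IsAffineHom (DS.map m)]
  [∀ j, CompactSpace (DV.obj j)] [∀ j, QuasiSeparatedSpace (DV.obj j)]
  [∀ j, CompactSpace (DX.obj j)] [∀ j, QuasiSeparatedSpace (DX.obj j)]
  [∀ j, QuasiSeparatedSpace (DS.obj j)]

set_option maxHeartbeats 1600000 in
/-- A datum over the limit comes from a stage, given a cartesian system of objects. -/
theorem effEt_of_system {i : I} (hi : IsTerminal i)
    (hcart : ∀ j, IsPullback (DV.map (hi.from j)) (η.app j) (η.app i) (DX.map (hi.from j)))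
    [LocallyOfFinitePresentation (η.app i)]
    {cV : Cone DV} (hcV : IsLimit cV) {cX : Cone DX} (hcX : IsLimit cX) {cS : Cone DS} (hcS : IsLimit cS)
    {h : cV.pt ⟶ cX.pt} (hh : ∀ j, IsPullback (cV.π.app j) h (η.app j) (cX.π.app j))
    {p : cX.pt ⟶ cS.pt} (hp : ∀ j, p ≫ cS.π.app j = cX.π.app j ≫ τ.app j)
    (H : ∀ j, ∀ B : Act (η.app j) (τ.app j), EffEt B) (A : Act h p) : EffEt A := by
  -- the systems of relations
  let ρ : DV ⟶ DS := η ≫ τ
  let DR := pbSys ρ τ
  let θ : DR ⟶ DS := pbSnd ρ τ ≫ τ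
  let DT := pbSys θ τ
  haveI : ∀ (a b : I) (m : a ⟶ b), IsAffineHom (DR.map m) := isAffineHom_pbSys ρ τ
  haveI : ∀ (a b : I) (m : a ⟶ b), IsAffineHom (DT.map m) := isAffineHom_pbSys θ τ
  haveI : ∀ j, CompactSpace (DR.obj j) := compactSpace_pbSys ρ τ
  haveI : ∀ j, QuasiSeparatedSpace (DR.obj j) := quasiSeparatedSpace_pbSys ρ τ
  haveI : ∀ j, CompactSpace (DT.obj j) := compactSpace_pbSys θ τ
  have hρ : ∀ j, (h ≫ p) ≫ cS.π.app j = cV.π.app j ≫ ρ.app j := fun j => by
    rw [Category.assoc, hp, reassoc_of% (hh j).w.symm]; rfl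
  let cR := pbCone ρ τ cV cX cS (h ≫ p) p hρ hp
  let hcR : IsLimit cR := isLimitPbCone ρ τ cV cX cS (h ≫ p) p hρ hp hcV hcX hcS
  have hθ : ∀ j, (pullback.snd (h ≫ p) p ≫ p) ≫ cS.π.app j = cR.π.app j ≫ θ.app j := fun j => by
    rw [Category.assoc, hp]
    exact ((pbCone_snd ρ τ cV cX cS (h ≫ p) p hρ hp j) =≫ τ.app j).trans (Category.assoc _ _ _) |> fun e => by
      simpa [θ, cR] using e.symm
  let cT := pbCone θ τ cR cX cS (pullback.snd (h ≫ p) p ≫ p) p hθ hp
  let hcT : IsLimit cT := isLimitPbCone θ τ cR cX cS (pullback.snd (h ≫ p) p ≫ p) p hθ hp hcR hcX hcS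
  have hfrom : ∀ {a b : I} (m : a ⟶ b), m ≫ hi.from b = hi.from a := fun m => hi.hom_ext _ _
  let tX : DX ⟶ (Functor.const I).obj (DX.obj i) :=
    { app := fun j => DX.map (hi.from j)
      naturality := fun a b m => by simp [← DX.map_comp, hfrom] }
  let tR : DR ⟶ (Functor.const I).obj (DX.obj i) := pbSnd ρ τ ≫ tX
  -- the stages of the action
  let sig : ∀ (k : I) (g : DR.obj k ⟶ DV.obj i), g ≫ η.app i = tR.app k → (DR.obj k ⟶ DV.obj k) :=
    fun k g hg => (hcart k).lift g (pullback.snd _ _) hg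
  have sig_fst : ∀ k g hg, sig k g hg ≫ DV.map (hi.from k) = g := fun k g hg => (hcart k).lift_fst _ _ _
  have sig_η : ∀ k g hg, sig k g hg ≫ η.app k = pullback.snd _ _ := fun k g hg => (hcart k).lift_snd _ _ _
  have hg_map : ∀ {k l : I} (m : k ⟶ l) (g : DR.obj l ⟶ DV.obj i), g ≫ η.app i = tR.app l →
      (DR.map m ≫ g) ≫ η.app i = tR.app k := fun m g hg => by
    rw [Category.assoc, hg, tR.naturality]; simp
  have sig_nat : ∀ {k l : I} (m : k ⟶ l) g hg,
      DR.map m ≫ sig l g hg = sig k (DR.map m ≫ g) (hg_map m g hg) ≫ DV.map m := by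
    intro k l m g hg
    apply (hcart l).hom_ext
    · rw [Category.assoc, sig_fst, Category.assoc, ← DV.map_comp, hfrom, sig_fst]
    · rw [Category.assoc, sig_η, Category.assoc, η.naturality, reassoc_of% sig_η]
      exact pbSys_map_snd ρ τ m
  -- the action in the limit
  let a := A.σ
  obtain ⟨j, g, hgA, hg⟩ := Scheme.exists_π_app_comp_eq_of_locallyOfFinitePresentation DR tR (η.app i) cR hcR
    (a ≫ cV.π.app i) (by
      ext k : 2
      simp only [NatTrans.comp_app, tR, pbSnd_app, Functor.const_map_app, Category.assoc, (hh i).w]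
      rw [show a ≫ h ≫ cX.π.app i = pullback.snd (h ≫ p) p ≫ cX.π.app i from A.act_hom_assoc _ _ _ _,
        ← cX.w (hi.from k), ← Category.assoc (pullback.snd (h ≫ p) p)]
      exact ((pbCone_snd ρ τ cV cX cS (h ≫ p) p hρ hp k) =≫ DX.map (hi.from k)) |> fun e => by
        simpa [cR, tX] using e)
  have agree : ∀ (k : I) (m : k ⟶ j), cR.π.app k ≫ sig k (DR.map m ≫ g) (hg_map m g hg) = a ≫ cV.π.app k := by
    intro k m
    apply (hcart k).hom_ext
    · rw [Category.assoc, sig_fst, ← Category.assoc, cR.w, Category.assoc, cV.w]; exact hgA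
    · rw [Category.assoc, sig_η, Category.assoc, (hh k).w, A.act_hom_assoc]
      exact pbCone_snd ρ τ cV cX cS (h ≫ p) p hρ hp k
  -- the unit
  let δ : ∀ k, DV.obj k ⟶ DR.obj k := fun k =>
    pullback.lift (𝟙 _) (η.app k) (Category.id_comp _)
  have δ_nat : ∀ {k l : I} (m : k ⟶ l), DV.map m ≫ δ l = δ k ≫ DR.map m := by
    intro k l m
    apply pullback.hom_ext
    · simp [δ, DR, pbSys]
    · simp [δ, DR, pbSys, η.naturality]
  have hδ : ∀ k, cV.π.app k ≫ δ k = pullback.lift (𝟙 _) h (Category.id_comp _) ≫ cR.π.app k := by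
    intro k
    apply pullback.hom_ext
    · rw [Category.assoc, pullback.lift_fst, Category.assoc, pbCone_fst, pullback.lift_fst_assoc]; simp
    · rw [Category.assoc, pullback.lift_snd, Category.assoc, pbCone_snd, pullback.lift_snd_assoc, (hh k).w]
  let tV : DV ⟶ (Functor.const I).obj (DX.obj i) := η ≫ tX
  obtain ⟨k₁, m₁, he₁⟩ := Scheme.exists_hom_comp_eq_comp_of_locallyOfFiniteType DV tV (η.app i) cV hcV
    (i := j) (δ j ≫ g) (DV.map (hi.from j))
    (by simp [tV, tR, δ, hg]) (by simp [tV, tX, η.naturality])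
    (by
      rw [← Category.assoc, hδ, Category.assoc, hgA, ← Category.assoc, ← A.act_eq_lift_σ,
        A.act_self _ _ _ (Category.id_comp _)]
      exact (Category.id_comp _).trans (cV.w _).symm)
  -- associativity
  let g₁ := DR.map m₁ ≫ g
  have hg₁ : g₁ ≫ η.app i = tR.app k₁ := hg_map m₁ g hg
  let μ : ∀ k (m : k ⟶ k₁), DT.obj k ⟶ DR.obj k := fun k m =>
    pullback.lift (pullback.fst _ _ ≫ sig k (DR.map m ≫ g₁) (hg_map m g₁ hg₁)) (pullback.snd _ _) (by
      simp only [ρ, NatTrans.comp_app, Category.assoc, reassoc_of% sig_η]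
      exact pullback.condition)
  let ν : ∀ k, DT.obj k ⟶ DR.obj k := fun k =>
    pullback.lift (pullback.fst _ _ ≫ pullback.fst _ _) (pullback.snd _ _) (by
      rw [Category.assoc, pullback.condition]
      exact pullback.condition)
  have agree₁ : ∀ (k : I) (m : k ⟶ k₁), cR.π.app k ≫ sig k (DR.map m ≫ g₁) (hg_map m g₁ hg₁) =
      a ≫ cV.π.app k := fun k m => by
    rw [← agree k (m ≫ m₁)]
    congr 1
    apply (hcart k).hom_ext
    · simp [sig_fst, g₁]
    · simp [sig_η]
  let muT : pullback (pullback.snd (h ≫ p) p ≫ p) p ⟶ pullback (h ≫ p) p :=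
    pullback.lift (pullback.fst _ _ ≫ a) (pullback.snd _ _) (by
      rw [Category.assoc, A.act_hom_assoc]; exact pullback.condition)
  let nuT : pullback (pullback.snd (h ≫ p) p ≫ p) p ⟶ pullback (h ≫ p) p :=
    pullback.lift (pullback.fst _ _ ≫ pullback.fst _ _) (pullback.snd _ _) (by
      rw [Category.assoc, pullback.condition]; exact pullback.condition)
  have hμ : cT.π.app k₁ ≫ μ k₁ (𝟙 k₁) = muT ≫ cR.π.app k₁ := by
    apply pullback.hom_ext
    · rw [Category.assoc, pullback.lift_fst, Category.assoc, pbCone_fst, pullback.lift_fst_assoc,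
        ← Category.assoc, pbCone_fst, Category.assoc, agree₁, Category.assoc]
    · rw [Category.assoc, pullback.lift_snd, Category.assoc, pbCone_snd]
      erw [pbCone_snd, pullback.lift_snd_assoc]
  have hν : cT.π.app k₁ ≫ ν k₁ = nuT ≫ cR.π.app k₁ := by
    apply pullback.hom_ext
    · rw [Category.assoc, pullback.lift_fst, Category.assoc, pbCone_fst, pullback.lift_fst_assoc,
        ← Category.assoc, pbCone_fst, Category.assoc, pbCone_fst, Category.assoc]
    · rw [Category.assoc, pullback.lift_snd, Category.assoc, pbCone_snd]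
      erw [pbCone_snd, pullback.lift_snd_assoc]
  have hassoc : muT ≫ a = nuT ≫ a := by
    simp only [muT, nuT, a, ← A.act_eq_lift_σ]
    have e1 : pullback.fst (pullback.snd (h ≫ p) p ≫ p) p ≫ A.σ = A.act
        (pullback.fst (pullback.snd (h ≫ p) p ≫ p) p ≫ pullback.fst (h ≫ p) p)
        (pullback.fst (pullback.snd (h ≫ p) p ≫ p) p ≫ pullback.snd (h ≫ p) p)
        (by simp [pullback.condition]) := A.comp_act _ _ _ _
    exact (A.congr e1 rfl _ (by rw [A.act_hom_assoc, Category.assoc]; exact pullback.condition)).trans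
      (A.act_act _ _ _ _ _ _)
  have hga : cR.π.app k₁ ≫ g₁ = a ≫ cV.π.app i := by
    rw [← Category.assoc, cR.w]; exact hgA
  let tT : DT ⟶ (Functor.const I).obj (DX.obj i) := pbSnd θ τ ≫ tX
  obtain ⟨k, m₂, he₂⟩ := Scheme.exists_hom_comp_eq_comp_of_locallyOfFiniteType DT tT (η.app i) cT hcT
    (i := k₁) (μ k₁ (𝟙 k₁) ≫ g₁) (ν k₁ ≫ g₁)
    (by simp [tT, μ, hg₁, tR]) (by simp [tT, ν, hg₁, tR])
    (by
      refine (Category.assoc _ _ _).symm.trans ((hμ =≫ g₁).trans ((Category.assoc _ _ _).trans ((muT ≫= hga).trans ?_)))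
      refine Eq.trans ?_ ((nuT ≫= hga).symm.trans ((Category.assoc _ _ _).symm.trans ((hν =≫ g₁).symm.trans (Category.assoc _ _ _))))
      rw [reassoc_of% hassoc])
  -- the action at the stage `k`
  let gk := DR.map m₂ ≫ g₁
  have hgk : gk ≫ η.app i = tR.app k := hg_map m₂ g₁ hg₁
  let σk := sig k gk hgk
  have h1 : σk ≫ η.app k = pullback.snd _ _ := sig_η _ _ _
  have h2 : δ k ≫ σk = 𝟙 _ := by
    apply (hcart k).hom_ext
    · rw [Category.assoc, sig_fst, Category.id_comp, ← Category.assoc, ← δ_nat, Category.assoc,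
        show δ k₁ ≫ g₁ = (δ k₁ ≫ DR.map m₁) ≫ g from (Category.assoc _ _ _).symm, ← δ_nat,
        Category.assoc, he₁, ← DV.map_comp, ← DV.map_comp, hfrom, hfrom]
    · rw [Category.assoc, sig_η, pullback.lift_snd, Category.id_comp]
  have μ_nat : DT.map m₂ ≫ μ k₁ (𝟙 k₁) = μ k m₂ ≫ DR.map m₂ := by
    apply pullback.hom_ext
    · simp only [μ, Category.assoc, pullback.lift_fst]
      rw [pbSys_map_fst ρ τ m₂, ← Category.assoc, pbSys_map_fst θ τ m₂, Category.assoc,
        sig_nat, pullback.lift_fst_assoc, Category.assoc]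
      congr 2
      apply (hcart k).hom_ext
      · simp [sig_fst]
      · simp [sig_η]
    · simp [μ, DR, DT, pbSys]
  have ν_nat : DT.map m₂ ≫ ν k₁ = ν k ≫ DR.map m₂ := by
    apply pullback.hom_ext <;> simp [ν, DR, DT, pbSys]
  have h3 : μ k m₂ ≫ σk = ν k ≫ σk := by
    apply (hcart k).hom_ext
    · rw [Category.assoc, Category.assoc, sig_fst]
      have := he₂
      rw [← Category.assoc, μ_nat, Category.assoc, ← Category.assoc (DT.map m₂), ν_nat, Category.assoc] at this
      exact this
    · simp [σk, sig_η, μ, ν]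
  let B : Act (η.app k) (τ.app k) := actOfMor σk h1 h2 h3
  refine effEt_congr (fun T v x e => ?_) (effEt_pullback_of_comm B (hh k) (hp k) (H k B))
  apply (hh k).hom_ext
  · rw [Act.pullbackAct_w, A.act_eq_lift_σ, Category.assoc, ← agree₁ k m₂]
    show pullback.lift _ _ _ ≫ σk = _
    rw [← Category.assoc]
    congr 1
    apply pullback.hom_ext
    · simp [pbCone_fst, cR]
    · simp [pbCone_snd, cR]
  · rw [Act.act_hom, Act.act_hom]

end Groth.Pi1EtDesc
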