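import Groth.Agent.Pi1Eff.Along
import Groth.Agent.Pi1EtDesc.Eff

/-!
# Effectiveness of descent data
-/

universe u

set_option autoImplicit false
set_option backward.isDefEq.respectTransparency false
set_option linter.style.haveILetI false

open CategoryTheory Limits AlgebraicGeometry

namespace Groth.Pi1EtDesc

open Groth.Pi1Desc

variable {X S : Scheme.{u}} {g : X ⟶ S}

theorem exists_sepqc_of_effAlong [IsUS g] [QuasiCompact g] (hg : EffAlong sepEtQC g) (D : Desc.SchDD g)
    [QuasiCompact D.obj.hom] [IsSeparated D.obj.hom] [Etale D.obj.hom] :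
    ∃ U : Over S, QuasiCompact U.hom ∧ IsSeparated U.hom ∧ Etale U.hom ∧
      Nonempty ((Desc.toDD g).obj U ≅ D) := by
  obtain ⟨U, π, q, hπ, hpb, hc⟩ := hg D.obj.hom ⟨⟨inferInstance, inferInstance⟩, inferInstance⟩ (ofDD D)
  haveI := surjective_of_isUS g
  exact ⟨Over.mk π, (quasiCompact_and_quasiSeparated_of_quot hpb).1, isSeparated_of_quot hpb, hπ,
    nonempty_iso_of_quot D π q hpb hc⟩

theorem exists_sep_of_effAlong [IsUS g] (hg : EffAlong sepEt g) (D : Desc.SchDD g)
    [IsSeparated D.obj.hom] [Etale D.obj.hom] :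
    ∃ U : Over S, IsSeparated U.hom ∧ Etale U.hom ∧ Nonempty ((Desc.toDD g).obj U ≅ D) := by
  obtain ⟨U, π, q, hπ, hpb, hc⟩ := hg D.obj.hom ⟨inferInstance, inferInstance⟩ (ofDD D)
  exact ⟨Over.mk π, isSeparated_of_quot hpb, hπ, nonempty_iso_of_quot D π q hpb hc⟩

end Groth.Pi1EtDesc
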