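import Groth.Agent.Pi1Eff.Along
import Groth.Agent.Pi1EtDesc.Spread
import Groth.Agent.Limits.LocalLimit

/-!
# Effectiveness is local
-/

universe u

set_option autoImplicit false
set_option backward.isDefEq.respectTransparency false
set_option backward.defeqAttrib.useBackward true
set_option linter.style.haveILetI false

open CategoryTheory Limits AlgebraicGeometry TopologicalSpace

namespace Groth.Pi1EtDesc

open Groth.Pi1Desc

variable {V X S : Scheme.{u}} {h : V ⟶ X} {p : X ⟶ S}

/-- Effectiveness pulls back along any commutative square of bases. -/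
theorem effEt_pullback_of_comm {V' X' S' : Scheme.{u}} {h' : V' ⟶ X'} {p' : X' ⟶ S'} {w : V' ⟶ V}
    {f : X' ⟶ X} {s : S' ⟶ S} (A : Act h p) (pb : IsPullback w h' h f) (hs : p' ≫ s = f ≫ p)
    (hE : EffEt A) : EffEt (A.pullbackAct pb hs) := by
  obtain ⟨U, π, q, hπ, hpb, hc⟩ := hE
  haveI : Etale (pullback.snd π s) := MorphismProperty.pullback_snd _ _ hπ
  let q' : V' ⟶ pullback π s := pullback.lift (w ≫ q) (h' ≫ p')
    (by rw [Category.assoc, hpb.w, reassoc_of% pb.w, ← hs, Category.assoc])
  refine ⟨_, pullback.snd π s, q', inferInstance, ?_, fun T v x e => ?_⟩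
  · refine IsPullback.of_right (h₁₂ := pullback.fst π s) (h₂₂ := s) ?_ (pullback.lift_snd _ _ _)
      (IsPullback.of_hasPullback π s)
    rw [pullback.lift_fst, hs]
    exact pb.paste_horiz hpb
  · apply pullback.hom_ext
    · simp only [q', Category.assoc, pullback.lift_fst]
      rw [← Category.assoc, Act.pullbackAct_w, hc, Category.assoc]
    · simp only [q', Category.assoc, pullback.lift_snd]
      rw [Act.act_hom_assoc, ← e]

/-- Effectiveness only depends on the datum up to isomorphism. -/
theorem effEt_of_iso_pullback {V' X' S' : Scheme.{u}} {h' : V' ⟶ X'} {p' : X' ⟶ S'} {w : V' ⟶ V}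
    {f : X' ⟶ X} {s : S' ⟶ S} (A : Act h p) (pb : IsPullback w h' h f) (hs : p' ≫ s = f ≫ p)
    [IsIso f] [IsIso s] (hE : EffEt (A.pullbackAct pb hs)) : EffEt A := by
  haveI : IsIso w := pb.isIso_fst_of_isIso
  have pb' : IsPullback (inv w) h h' (inv f) :=
    IsPullback.of_horiz_isIso ⟨by rw [IsIso.inv_comp_eq, ← Category.assoc, pb.w, Category.assoc, IsIso.hom_inv_id, Category.comp_id]⟩
  have hs' : p ≫ inv s = inv f ≫ p' := by
    rw [IsIso.comp_inv_eq, Category.assoc, hs, IsIso.inv_hom_id_assoc]
  refine effEt_congr (fun T v x e => ?_) (effEt_pullback_of_comm _ pb' hs' hE)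
  have key : (((A.pullbackAct pb hs).pullbackAct pb' hs').act v x e ≫ inv w) ≫ w = A.act v x e := by
    rw [Act.pullbackAct_w, Act.pullbackAct_w]
    exact A.congr (by simp) (by simp) _ _
  simpa using key

/-- Effectiveness along a morphism is insensitive to an isomorphism of the base. -/
theorem effAlong_comp_iso {P : MorphismProperty Scheme.{u}} (hp : EffAlong P p) {S' : Scheme.{u}}
    (e : S ⟶ S') [IsIso e] : EffAlong P (p ≫ e) := fun V h hh A => by
  have pb : IsPullback (𝟙 V) h h (𝟙 X) := IsPullback.id_horiz h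
  exact effEt_of_iso_pullback A pb (s := e) (p' := p) (Category.id_comp _).symm (hp h hh _)

/-- Effectiveness along a morphism is local on the base. -/
theorem effAlong_of_openCover {P : MorphismProperty Scheme.{u}} [P.IsStableUnderBaseChange] [IsUS p]
    {ι : Type*} (O : ι → S.Opens) (hO : ⨆ i, O i = ⊤)
    (H : ∀ i, EffAlong P (pullback.snd p (O i).ι)) : EffAlong P p := fun V h hh A =>
  effEt_of_openCover A O hO fun i =>
    effEt_restrict A (H i _ (MorphismProperty.pullback_snd _ _ hh) (actBC A (O i).ι))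

/-- It suffices to treat affine bases. -/
theorem effAlong_of_affine {P : MorphismProperty Scheme.{u}} [P.IsStableUnderBaseChange] [IsUS p]
    (H : ∀ (R : CommRingCat.{u}) (b : Spec R ⟶ S), IsOpenImmersion b → EffAlong P (pullback.snd p b)) :
    EffAlong P p := by
  refine effAlong_of_openCover (fun i : S.affineOpens => (i : S.Opens)) (iSup_affineOpens_eq_top S) fun i => ?_
  let e : Spec Γ(S, i) ⟶ (i : S.Opens).toScheme := i.2.isoSpec.inv
  intro V h hh A
  let f := pullback.map p (e ≫ (i : S.Opens).ι) p (i : S.Opens).ι (𝟙 X) e (𝟙 S) (by simp) (by simp)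
  have hf : f ≫ pullback.snd p (i : S.Opens).ι = pullback.snd p (e ≫ (i : S.Opens).ι) ≫ e :=
    pullback.lift_snd _ _ _
  haveI : IsIso f := inferInstanceAs (IsIso (pullback.map _ _ _ _ _ _ _ _ _))
  exact effEt_of_iso_pullback A (IsPullback.of_hasPullback h f) hf.symm
    (H _ _ inferInstance _ (MorphismProperty.pullback_snd _ _ hh) _)

/-- For morphisms of finite presentation effectiveness may be tested on local rings. -/
theorem effEt_of_stalks [IsUS p] [LocallyOfFinitePresentation p] [QuasiCompact p] [QuasiSeparated p]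
    [Etale h] [QuasiCompact h] [QuasiSeparated h] (A : Act h p)
    (H : ∀ a : S, EffEt (actBC A (S.fromSpecStalk a))) : EffEt A := by
  haveI := surjective_of_isUS p
  have key : ∀ a : S, ∃ W : S.Opens, a ∈ W ∧ EffEt (actBC A W.ι) := fun a => by
    obtain ⟨_, ⟨W, hW, rfl⟩, haW, -⟩ :=
      S.isBasis_affineOpens.exists_subset_of_mem_open (Set.mem_univ a) isOpen_univ
    change S.Opens at W
    haveI := Groth.Limits.nonempty_basicNhd (W := W) haW
    haveI : ∀ V, IsAffine ((Groth.Limits.nhdDiagram W a).obj V) := fun V =>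
      Groth.Limits.isAffineOpen_nhd hW V
    haveI : ∀ (V V' : Groth.Limits.BasicNhd W a) (m : V ⟶ V'),
        IsAffineHom ((Groth.Limits.nhdDiagram W a).map m) := fun _ _ _ => inferInstance
    obtain ⟨hc⟩ := Groth.Limits.nonempty_isLimit_nhdCone hW haW
    let i : Groth.Limits.BasicNhd W a := Groth.Limits.BasicNhd.top haW
    have h1 : EffEt (actBC (actBC A i.1.ι) ((Groth.Limits.nhdCone W a).π.app i)) :=
      (effEt_actBC_comp_iff A _ _).2 (effEt_actBC_congr A
        (Scheme.Opens.fromSpecStalkOfMem_ι _ _ _).symm (H a))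
    obtain ⟨j, φ, hj⟩ := exists_effEt_stage hc (actBC A i.1.ι) h1
    exact ⟨j.1, j.2.1, effEt_actBC_congr A (S.homOfLE_ι (leOfHom φ : j ≤ i))
      ((effEt_actBC_comp_iff A i.1.ι _).1 hj)⟩
  choose W haW hW using key
  exact effEt_of_openCover A W
    (eq_top_iff.2 fun a _ => Opens.mem_iSup.2 ⟨a, haW a⟩) fun a => effEt_restrict A (hW a)

end Groth.Pi1EtDesc
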