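import Groth.Agent.Pi1Eff.Piece
import Groth.Agent.S2363
import Groth.Agent.Calg1.Completion
import Groth.Agent.Ega41Exist.Geometric
import Groth.Agent.Calg6.LimitFlatComplete
import Groth.Agent.Syntomic.EtaleFieldDimCrit

/-!
# Effectiveness along proper surjective morphisms to locally Noetherian schemes
-/

universe u

set_option autoImplicit false
set_option backward.isDefEq.respectTransparency false
set_option linter.style.haveILetI false

open CategoryTheory Limits AlgebraicGeometry TopologicalSpace IsLocalRing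

namespace Groth.Pi1EtDesc

open Groth.Pi1Desc

/-- A Noetherian local ring has a faithfully flat complete Noetherian local algebra of the same dimension
with algebraically closed residue field. -/
theorem exists_complete_algClosed (R : CommRingCat.{u}) [IsNoetherianRing R] [IsLocalRing R] :
    ∃ (B : Type u) (_ : CommRing B) (_ : IsNoetherianRing B) (_ : IsLocalRing B)
      (_ : IsAdicComplete (maximalIdeal B) B) (_ : IsAlgClosed (ResidueField B)) (φ : R ⟶ CommRingCat.of B),
      Flat (Spec.map φ) ∧ Surjective (Spec.map φ) ∧ ringKrullDim B = ringKrullDim R := by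
  obtain ⟨B₀, _, _, hN, hL, hlh, hF, e, -⟩ :=
    Groth.Agent.S2363.result (A := R) (AlgebraicClosure (ResidueField R))
  haveI := hN; haveI := hL; haveI := hlh; haveI := hF
  have hm : (maximalIdeal R).map (algebraMap R B₀) = maximalIdeal B₀ :=
    eq_maximalIdeal (Ideal.Quotient.maximal_of_isField _
      (MulEquiv.isField (Field.toIsField (AlgebraicClosure (ResidueField R))) e.toMulEquiv))
  let e' : ResidueField B₀ ≃+* AlgebraicClosure (ResidueField R) :=
    (Ideal.quotEquivOfEq hm.symm).trans e
  haveI : IsAlgClosed (ResidueField B₀) := IsAlgClosed.of_ringEquiv _ _ e'.symm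
  haveI := Groth.Calg1.isNoetherianRing_adicCompletion (maximalIdeal B₀) (IsNoetherian.noetherian _)
  let r := RingEquiv.ofBijective _ (Groth.Ega41Exist.bijective_residueField_map_completion (A := B₀))
  haveI : IsAlgClosed (ResidueField (AdicCompletion (maximalIdeal B₀) B₀)) :=
    IsAlgClosed.of_ringEquiv _ _ r
  haveI : IsAdicComplete (maximalIdeal (AdicCompletion (maximalIdeal B₀) B₀))
      (AdicCompletion (maximalIdeal B₀) B₀) := by
    rw [AdicCompletion.maximalIdeal_eq_map, IsAdicComplete.map_algebraMap_iff]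
    exact AdicCompletion.isAdicComplete (IsNoetherian.noetherian _)
  haveI := Groth.Calg6.LimitFlat.faithfullyFlat_completion B₀
  haveI : Module.Flat R (AdicCompletion (maximalIdeal B₀) B₀) := Module.Flat.trans R B₀ _
  haveI : Module.FaithfullyFlat R B₀ := Module.FaithfullyFlat.of_flat_of_isLocalHom
  haveI : Module.FaithfullyFlat R (AdicCompletion (maximalIdeal B₀) B₀) :=
    Module.FaithfullyFlat.trans R B₀ _
  refine ⟨AdicCompletion (maximalIdeal B₀) B₀, inferInstance, inferInstance, inferInstance, inferInstance,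
    inferInstance, CommRingCat.ofHom (algebraMap R _),
    (HasRingHomProperty.Spec_iff (P := @Flat)).2 (RingHom.flat_algebraMap_iff.2 inferInstance),
    ⟨PrimeSpectrum.comap_surjective_of_faithfullyFlat⟩, ?_⟩
  haveI : IsLocalHom (algebraMap B₀ (AdicCompletion (maximalIdeal B₀) B₀)) := ⟨fun a ha => by
    by_contra hna
    have h1 : algebraMap B₀ (AdicCompletion (maximalIdeal B₀) B₀) a ∈
        (maximalIdeal B₀).map (algebraMap B₀ (AdicCompletion (maximalIdeal B₀) B₀)) :=
      Ideal.mem_map_of_mem _ hna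
    rw [← AdicCompletion.maximalIdeal_eq_map] at h1
    exact h1 ha⟩
  rw [Groth.Syntomic.ringKrullDim_eq_of_flat_of_map_maximalIdeal (A := B₀) AdicCompletion.maximalIdeal_eq_map.symm,
    Groth.Syntomic.ringKrullDim_eq_of_flat_of_map_maximalIdeal (A := R) hm]

/-- The punctured spectrum. -/
def punctured (B : Type u) [CommRing B] [IsLocalRing B] : (Spec (CommRingCat.of B)).Opens :=
  ⟨({closedPoint B} : Set (PrimeSpectrum B))ᶜ, (IsLocalRing.isClosed_singleton_closedPoint B).isOpen_compl⟩

/-- Dimensions of the local rings of the punctured spectrum. -/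
theorem dim_stalk_punctured_lt {B : Type u} [CommRing B] [IsLocalRing B] [IsNoetherianRing B] (n : ℕ)
    (hB : ringKrullDim B < ((n + 1 : ℕ) : WithBot ℕ∞)) (z : (punctured B).toScheme) :
    ringKrullDim ((punctured B).toScheme.presheaf.stalk z) < (n : WithBot ℕ∞) := by
  rw [ringKrullDim_eq_of_ringEquiv ((punctured B).stalkIso z).commRingCatIsoToRingEquiv,
    ringKrullDim_eq_of_ringEquiv (Spec.stalkIso (CommRingCat.of B) z.1).commRingCatIsoToRingEquiv,
    IsLocalization.AtPrime.ringKrullDim_eq_height z.1.asIdeal (Localization.AtPrime z.1.asIdeal)]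
  rw [← IsLocalRing.maximalIdeal_height_eq_ringKrullDim] at hB
  have h1 : z.1.asIdeal.height < (maximalIdeal B).height := by
    refine Ideal.height_strict_mono_of_isPrime_of_isPrime (lt_of_le_of_ne (le_maximalIdeal z.1.isPrime.ne_top) ?_)
    exact fun h => z.2 (PrimeSpectrum.ext h)
  have h2 : (maximalIdeal B).height < ((n + 1 : ℕ) : ℕ∞) := by exact_mod_cast hB
  have h3 : z.1.asIdeal.height < (n : ℕ∞) := by
    refine lt_of_lt_of_le h1 ?_
    rw [Nat.cast_add, Nat.cast_one] at h2
    exact Order.le_of_lt_add_one h2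
  exact_mod_cast h3

/-- The predicate proved by induction on the dimension. -/
def EffProperBelow (n : ℕ) : Prop :=
  ∀ ⦃S : Scheme.{u}⦄ [IsLocallyNoetherian S], (∀ a : S, ringKrullDim (S.presheaf.stalk a) < (n : WithBot ℕ∞)) →
    ∀ ⦃X : Scheme.{u}⦄ (p : X ⟶ S) [IsProper p] [Surjective p], EffAlong sepEtQC p

/-- The step over a complete local ring. -/
theorem effEt_complete {n : ℕ} (hn : EffProperBelow.{u} n) {B : Type u} [CommRing B] [IsNoetherianRing B]
    [IsLocalRing B] [IsAdicComplete (maximalIdeal B) B] [IsAlgClosed (ResidueField B)]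
    (hB : ringKrullDim B < ((n + 1 : ℕ) : WithBot ℕ∞)) {X : Scheme.{u}}
    (p : X ⟶ Spec (CommRingCat.of B)) [IsProper p] [Surjective p] : EffAlong sepEtQC p := by
  rintro V h ⟨⟨hh₁, hh₂⟩, hh₃⟩ A
  haveI := hh₁; haveI := hh₂; haveI := hh₃
  refine effEt_of_cover fun v => ?_
  by_cases hv : p (h v) = closedPoint B
  · obtain ⟨W, hvW, hW, hiso⟩ := exists_piece A v hv
    haveI := hiso
    refine ⟨W, hvW, hW, _, 𝟙 _, W.ι ≫ h ≫ p, ⟨IsPullback.of_vert_isIso ⟨by simp⟩, fun T w w' e he => ?_⟩,
      inferInstance⟩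
    simpa using e.symm
  · let O := punctured B
    haveI : IsProper (p ∣_ O) := IsZariskiLocalAtTarget.restrict ‹_› O
    haveI : Surjective (p ∣_ O) := IsZariskiLocalAtTarget.restrict ‹_› O
    refine ⟨(h ≫ p) ⁻¹ᵁ O, hv, A.stable_preimage O, effEtOn_preimage A (hn (dim_stalk_punctured_lt n hB) (p ∣_ O) _ ⟨⟨?_, ?_⟩, ?_⟩ _)⟩
    · exact IsZariskiLocalAtTarget.restrict hh₁ _
    · exact IsZariskiLocalAtTarget.restrict hh₂ _
    · exact IsZariskiLocalAtTarget.restrict hh₃ _

/-- Local rings are reached from complete ones. -/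
theorem effEt_of_dim_stalks {S X : Scheme.{u}} [IsLocallyNoetherian S] (p : X ⟶ S) [IsProper p] [Surjective p]
    (H : ∀ a : S, ∃ n : ℕ, EffProperBelow.{u} n ∧ ringKrullDim (S.presheaf.stalk a) < ((n + 1 : ℕ) : WithBot ℕ∞)) :
    EffAlong sepEtQC p := by
  rintro V h ⟨⟨hh₁, hh₂⟩, hh₃⟩ A
  haveI := hh₁; haveI := hh₂; haveI := hh₃
  haveI : LocallyOfFinitePresentation p :=
    LocallyOfFinitePresentation.iff_locallyOfFiniteType.mpr inferInstance
  refine effEt_of_stalks A fun a => ?_
  obtain ⟨n, hn, hdim⟩ := H a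
  obtain ⟨B, _, _, _, _, _, φ, hf, hs, hB⟩ := exists_complete_algClosed (S.presheaf.stalk a)
  haveI := hf; haveI := hs
  haveI := isUS_of_isPullback (IsPullback.of_hasPullback p (S.fromSpecStalk a))
  refine effEt_of_fpqc _ (Spec.map φ) ?_
  exact effEt_complete hn (hB ▸ hdim) _ _
    ⟨⟨MorphismProperty.pullback_snd _ _ (MorphismProperty.pullback_snd _ _ hh₁),
      MorphismProperty.pullback_snd _ _ (MorphismProperty.pullback_snd _ _ hh₂)⟩,
      MorphismProperty.pullback_snd _ _ (MorphismProperty.pullback_snd _ _ hh₃)⟩ _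

theorem effProperBelow (n : ℕ) : EffProperBelow.{u} n := by
  induction n with
  | zero =>
    intro S _ hS X p _ _
    refine effEt_of_dim_stalks p fun a => absurd (hS a) ?_
    exact not_lt.2 ringKrullDim_nonneg_of_nontrivial
  | succ n ih => exact fun S _ hS X p _ _ => effEt_of_dim_stalks p fun a => ⟨n, ih, hS a⟩

/-- Etale separated quasi-compact descent data are effective along proper surjections to locally
Noetherian schemes. -/
theorem effAlong_proper_of_noetherian {S X : Scheme.{u}} [IsLocallyNoetherian S] (p : X ⟶ S) [IsProper p]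
    [Surjective p] : EffAlong sepEtQC p := by
  refine effEt_of_dim_stalks p fun a => ?_
  obtain ⟨n, hn⟩ : ∃ n : ℕ, ringKrullDim (S.presheaf.stalk a) = (n : WithBot ℕ∞) := by
    have h := IsLocalRing.maximalIdeal_height_eq_ringKrullDim (R := S.presheaf.stalk a)
    obtain ⟨n, hn⟩ := WithTop.ne_top_iff_exists.1
      (Ideal.height_ne_top (I := maximalIdeal (S.presheaf.stalk a)) Ideal.IsPrime.ne_top')
    exact ⟨n, by rw [← h, ← hn]; rfl⟩
  exact ⟨n, effProperBelow n, by rw [hn]; exact_mod_cast Nat.lt_succ_self n⟩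

end Groth.Pi1EtDesc
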