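import Groth.Agent.Pi1Eff.Local
import Groth.Agent.HensPair.ProperClopen
import Groth.Agent.CohFin.ProjFinite
import Groth.Agent.Pi1Etale.EqLocus
import Groth.Agent.Misc3Fib.Basic
import Groth.Agent.S0385
import Mathlib.AlgebraicGeometry.AlgClosed.Basic

/-!
# The pieces through the closed fibre, over a complete local ring
-/

universe u

set_option autoImplicit false
set_option backward.isDefEq.respectTransparency false
set_option linter.style.haveILetI false

open CategoryTheory Limits AlgebraicGeometry TopologicalSpace IsLocalRing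

namespace Groth.Pi1EtDesc

open Groth.Pi1Desc

/-- A field valued point in the range of a closed immersion factors through it. -/
theorem exists_lift_field_point {A C : Scheme.{u}} (t : A ⟶ C) [IsClosedImmersion t] {L : Type u} [Field L]
    (g : Spec (CommRingCat.of L) ⟶ C) (hg : Set.range g.base ⊆ Set.range t.base) :
    ∃ a : Spec (CommRingCat.of L) ⟶ A, a ≫ t = g := by
  haveI : Surjective (pullback.snd t g) := ⟨fun y => by
    obtain ⟨x, hx⟩ := hg ⟨y, rfl⟩
    obtain ⟨z, -, hz⟩ := Scheme.Pullback.exists_preimage_pullback x y hx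
    exact ⟨z, hz⟩⟩
  haveI : IsIso (pullback.snd t g) := isIso_of_isClosedImmersion_of_surjective _
  exact ⟨inv (pullback.snd t g) ≫ pullback.fst t g, by
    rw [Category.assoc, pullback.condition, IsIso.inv_hom_id_assoc]⟩

variable {B : Type u} [CommRing B] [IsLocalRing B] [IsNoetherianRing B]
  [IsAdicComplete (maximalIdeal B) B] [IsAlgClosed (ResidueField B)]
variable {X V : Scheme.{u}} {h : V ⟶ X} {p : X ⟶ Spec (CommRingCat.of B)}

/-- The closed point. -/
noncomputable abbrev closedPt (B : Type u) [CommRing B] [IsLocalRing B] :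
    Spec (CommRingCat.of (ResidueField B)) ⟶ Spec (CommRingCat.of B) :=
  Spec.map (CommRingCat.ofHom (residue B))

theorem eq_closedPoint_iff {f : X ⟶ Spec (CommRingCat.of B)} {x : X} :
    x ∈ Groth.HensPair.overV f (maximalIdeal B) ↔ f x = closedPoint B := by
  constructor
  · intro hx
    exact PrimeSpectrum.ext ((maximalIdeal.isMaximal B).eq_of_le (f x).isPrime.ne_top hx).symm
  · intro hx a ha
    rw [hx]
    exact ha

theorem eq_empty_of_no_closedPoint (f : X ⟶ Spec (CommRingCat.of B)) [UniversallyClosed f] {T : Set X}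
    (hT : IsClosed T) (h : ∀ x ∈ T, f x ≠ closedPoint B) : T = ∅ :=
  Groth.HensPair.eq_empty_of_inter_overV f (HenselianRing.jac (I := maximalIdeal B)) hT
    (Set.eq_empty_iff_forall_notMem.2 fun x ⟨hx, hxI⟩ => h x hx (eq_closedPoint_iff.1 hxI))

theorem closedPt_apply (z : Spec (CommRingCat.of (ResidueField B))) : closedPt B z = closedPoint B := by
  refine PrimeSpectrum.ext ((maximalIdeal.isMaximal B).eq_of_le (closedPt B z).isPrime.ne_top ?_).symm
  intro a ha
  change residue B a ∈ z.asIdeal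
  rw [(residue_eq_zero_iff a).2 ha]
  exact z.asIdeal.zero_mem

set_option maxHeartbeats 1600000 in
/-- Every point over the closed point has a stable neighbourhood mapping isomorphically to the base. -/
theorem exists_piece [IsProper p] [Surjective p] [Etale h] [IsSeparated h] [QuasiCompact h]
    (A : Act h p) (v : V) (hv : p (h v) = closedPoint B) :
    ∃ W : V.Opens, v ∈ W ∧ A.Stable W ∧ IsIso (W.ι ≫ h) := by
  -- the closed fibre
  let i₀ := closedPt B
  haveI : IsClosedImmersion i₀ := IsClosedImmersion.spec_of_surjective _ residue_surjective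
  let iX := pullback.fst p i₀
  let p₀ := pullback.snd p i₀
  let w₀ := pullback.fst h iX
  let h₀ := pullback.snd h iX
  haveI : Flat p₀ := Groth.Misc3Fib.flat_of_field _
  have hrange : ∀ x : X, x ∈ Set.range iX.base ↔ p x = closedPoint B := by
    intro x
    rw [Scheme.Pullback.range_fst]
    refine ⟨?_, fun hx => ⟨IsLocalRing.closedPoint _, ?_⟩⟩
    · rintro ⟨z, hz⟩
      rw [← hz, closedPt_apply]
    · rw [hx]; exact closedPt_apply _
  haveI : Etale h₀ := MorphismProperty.pullback_snd _ _ ‹Etale h›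
  obtain ⟨U₀, π₀, q₀, hπ₀, hpb, hinv⟩ :=
    effAlong_of_flat p₀ h₀ ⟨⟨inferInstance, inferInstance⟩, inferInstance⟩ (actBC A i₀)
  haveI := hπ₀
  obtain ⟨x₀, hx₀⟩ := (hrange (h v)).2 hv
  obtain ⟨v₀, hv₀, -⟩ := Scheme.Pullback.exists_preimage_pullback v x₀ hx₀.symm
  haveI : LocallyQuasiFinite π₀ := Groth.DescentBase.locallyQuasiFinite_of_etale _
  have hu : IsClosed ({q₀ v₀} : Set U₀) := by
    have h1 := π₀.isDiscrete_preimage_singleton (π₀ (q₀ v₀))
    have h2 : π₀ ⁻¹' {π₀ (q₀ v₀)} = Set.univ := Set.eq_univ_of_forall fun y =>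
      (Subsingleton.elim (α := PrimeSpectrum (ResidueField B)) _ _)
    rw [h2] at h1
    haveI : DiscreteTopology U₀ := isDiscrete_univ_iff.1 h1
    exact isClosed_discrete _
  let σ := pointOfClosedPoint π₀ (q₀ v₀) hu
  have hσ : σ ≫ π₀ = 𝟙 _ := pointOfClosedPoint_comp _ _ _
  let s₀ : pullback p i₀ ⟶ pullback h iX :=
    hpb.lift (p₀ ≫ σ) (𝟙 _) (by rw [Category.assoc, hσ, Category.comp_id, Category.id_comp])
  have hs₀q : s₀ ≫ q₀ = p₀ ≫ σ := hpb.lift_fst _ _ _
  have hs₀h : s₀ ≫ h₀ = 𝟙 _ := hpb.lift_snd _ _ _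
  let t := s₀ ≫ w₀
  have hth : t ≫ h = iX := by
    rw [Category.assoc, pullback.condition, reassoc_of% hs₀h]
  haveI : IsClosedImmersion (t ≫ h) := by rw [hth]; infer_instance
  haveI : IsClosedImmersion t := IsClosedImmersion.of_comp t h
  haveI : Etale (s₀ ≫ h₀) := by rw [hs₀h]; infer_instance
  haveI : Etale s₀ := Etale.of_comp s₀ h₀
  haveI : IsSplitMono s₀ := ⟨⟨⟨h₀, hs₀h⟩⟩⟩
  haveI : Mono s₀ := inferInstance
  haveI : IsOpenImmersion s₀ := IsOpenImmersion.of_flat_of_mono s₀
  have hvt : v ∈ Set.range t.base := by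
    let g := (pullback h iX).fromSpecResidueField v₀
    haveI : Etale σ := by
      haveI : Etale (σ ≫ π₀) := by rw [hσ]; infer_instance
      exact Etale.of_comp σ π₀
    haveI : IsSplitMono σ := ⟨⟨⟨π₀, hσ⟩⟩⟩
    haveI : Mono σ := inferInstance
    haveI : IsOpenImmersion σ := IsOpenImmersion.of_flat_of_mono σ
    have hr : Set.range (g ≫ q₀).base ⊆ Set.range σ.base := by
      rintro _ ⟨z, rfl⟩
      refine ⟨closedPoint (ResidueField B), ?_⟩
      rw [pointOfClosedPoint_apply, Scheme.Hom.comp_apply, Scheme.fromSpecResidueField_apply]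
    let y := IsOpenImmersion.lift σ (g ≫ q₀) hr
    have hy : y ≫ σ = g ≫ q₀ := IsOpenImmersion.lift_fac _ _ _
    have hy' : y = g ≫ h₀ ≫ p₀ := by
      rw [← Category.comp_id y, ← hσ, reassoc_of% hy, hpb.w]
    have key : g = (g ≫ h₀) ≫ s₀ := by
      apply hpb.hom_ext
      · rw [← hy, hy']; simp only [Category.assoc, hs₀q]
      · simp only [Category.assoc]; rw [show s₀ ≫ pullback.snd h iX = 𝟙 _ from hs₀h, Category.comp_id]
    obtain ⟨z⟩ : Nonempty (Spec ((pullback h iX).residueField v₀)) := inferInstance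
    refine ⟨(g ≫ h₀) z, ?_⟩
    have := congrArg (fun f => f.base z) key
    simp only [Scheme.Hom.comp_apply, g, Scheme.fromSpecResidueField_apply] at this
    rw [Scheme.Hom.comp_apply]
    simp only [Scheme.Hom.comp_apply, g, Scheme.fromSpecResidueField_apply]
    rw [← this]
    exact hv₀
  -- compactify over `X` and lift the clopen piece of the closed fibre
  haveI : CompactSpace X := QuasiCompact.compactSpace_of_compactSpace p
  haveI : QuasiSeparatedSpace X := quasiSeparatedSpace_of_quasiSeparated p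
  haveI : LocallyQuasiFinite h := Groth.DescentBase.locallyQuasiFinite_of_etale _
  obtain ⟨Y, j, π, hj, -, hπ, hjπ⟩ := Groth.Agent.S0385.result h
  haveI := hj; haveI := hπ
  let f := π ≫ p
  haveI : IsProper f := inferInstanceAs (IsProper (π ≫ p))
  let m := maximalIdeal B
  haveI : IsClosedImmersion ((t ≫ j) ≫ π) := by rw [Category.assoc, hjπ, hth]; infer_instance
  haveI : IsClosedImmersion (t ≫ j) := IsClosedImmersion.of_comp (t ≫ j) π
  obtain ⟨O, hO, hO'⟩ := (pullback.fst h iX).isEmbedding.isInducing.isOpen_iff.1 s₀.isOpenEmbedding.isOpen_range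
  have hjh : ∀ y : V, f (j y) = p (h y) := fun y => by
    simp only [f, Scheme.Hom.comp_apply, ← hjπ]
  have hfw : ∀ y : V, p (h y) = closedPoint B → y ∈ Set.range w₀.base := fun y hy => by
    obtain ⟨a, ha⟩ := (hrange (h y)).2 hy
    obtain ⟨z, hz, -⟩ := Scheme.Pullback.exists_preimage_pullback y a ha.symm
    exact ⟨z, hz⟩
  have hP : Set.range (t ≫ j).base = Groth.HensPair.overV f m ∩ (j '' O) := by
    ext y
    constructor
    · rintro ⟨a, rfl⟩
      refine ⟨eq_closedPoint_iff.2 ?_, t a, ?_, rfl⟩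
      · refine (congrArg f.base (Scheme.Hom.comp_apply t j a)).trans ((hjh (t a)).trans ?_)
        refine (hrange _).1 ⟨a, ?_⟩
        rw [← hth]; rfl
      · have : s₀ a ∈ w₀.base ⁻¹' O := hO'.symm ▸ ⟨a, rfl⟩
        rw [Scheme.Hom.comp_apply]
        exact this
    · rintro ⟨hy, y', hy', rfl⟩
      obtain ⟨z, rfl⟩ := hfw y' (by rw [← hjh]; exact eq_closedPoint_iff.1 hy)
      obtain ⟨a, rfl⟩ : z ∈ Set.range s₀.base := hO' ▸ hy'
      exact ⟨a, by simp only [t, Scheme.Hom.comp_apply]⟩
  obtain ⟨W₁, hW₁, hW₁'⟩ := Groth.HensPair.exists_clopen_of_proper Groth.CohFin.projFinite m f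
    (Set.range (t ≫ j).base) (Groth.HensPair.overV f m \ j '' O)
    (t ≫ j).isClosedEmbedding.isClosed_range
    ((Groth.HensPair.isClosed_overV f m).sdiff (j.isOpenEmbedding.isOpenMap _ hO))
    (by rw [hP]; ext y; simp; tauto) (by rw [hP]; exact Set.inter_union_sdiff _ _)
  have hWj : W₁ ⊆ Set.range j.base := by
    refine Set.sdiff_eq_empty.1 (eq_empty_of_no_closedPoint f (hW₁.1.sdiff j.isOpenEmbedding.isOpen_range) ?_)
    intro y ⟨hy, hyj⟩ hyc
    obtain ⟨a, rfl⟩ := hW₁'.le ⟨hy, eq_closedPoint_iff.2 hyc⟩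
    exact hyj ⟨t a, by simp only [Scheme.Hom.comp_apply]⟩
  let W : V.Opens := ⟨j ⁻¹' W₁, hW₁.2.preimage j.continuous⟩
  have hWclosed : ∀ y : V, y ∈ W → p (h y) = closedPoint B → y ∈ Set.range t.base := by
    intro y hy hyc
    obtain ⟨a, ha⟩ := hW₁'.le ⟨hy, eq_closedPoint_iff.2 (by rw [hjh]; exact hyc)⟩
    exact ⟨a, j.isOpenEmbedding.injective (by rw [← ha]; rfl)⟩
  have htW : ∀ a, t a ∈ W := fun a => (hW₁'.ge ⟨a, rfl⟩ : (t ≫ j) a ∈ W₁ ∩ _).1
  let c := W.ι ≫ h
  haveI : IsClosedImmersion (W.ι ≫ j) := by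
    refine IsClosedImmersion.of_isPreimmersion _ ?_
    have : Set.range (W.ι ≫ j).base = W₁ := by
      ext y
      refine ⟨?_, fun hy => ?_⟩
      · rintro ⟨w, rfl⟩; exact w.2
      · obtain ⟨y', rfl⟩ := hWj hy
        exact ⟨⟨y', hy⟩, rfl⟩
    rw [this]; exact hW₁.1
  haveI : IsFinite c := by
    have : c = (W.ι ≫ j) ≫ π := by simp only [c, Category.assoc, hjπ]
    rw [this]; infer_instance
  -- `c` is an isomorphism
  haveI : UniversallyInjective c := by
    rw [UniversallyInjective.iff_diagonal]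
    refine ⟨fun z => ?_⟩
    by_contra hz
    let R := pullback c c
    let fR : R ⟶ Spec (CommRingCat.of B) := pullback.fst c c ≫ c ≫ p
    haveI : IsProper fR := inferInstanceAs (IsProper (pullback.fst c c ≫ c ≫ p))
    have hemp : (Set.range (pullback.diagonal c).base)ᶜ = ∅ := by
      refine eq_empty_of_no_closedPoint fR (pullback.diagonal c).isOpenEmbedding.isOpen_range.isClosed_compl ?_
      intro z hz hzc
      apply hz
      let g := R.fromSpecResidueField z
      let g₁ := g ≫ pullback.fst c c ≫ W.ι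
      let g₂ := g ≫ pullback.snd c c ≫ W.ι
      have hpt : ∀ (k : pullback c c ⟶ W.toScheme), k ≫ c = pullback.fst c c ≫ c →
          ∃ a, a ≫ t = g ≫ k ≫ W.ι := fun k hk => by
        refine exists_lift_field_point t _ ?_
        rintro _ ⟨y, rfl⟩
        rw [Scheme.Hom.comp_apply, Scheme.Hom.comp_apply]
        refine (congrArg (fun r => W.ι (k r) ∈ Set.range t.base) (R.fromSpecResidueField_apply z y)).mpr ?_
        refine hWclosed _ (k z).2 ?_
        have := congrArg (fun f : R ⟶ X => p (f.base z)) hk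
        simp only [c, Scheme.Hom.comp_apply] at this
        rw [this]
        exact hzc
      obtain ⟨a, ha⟩ := hpt (pullback.fst c c) rfl
      obtain ⟨b, hb⟩ := hpt (pullback.snd c c) pullback.condition.symm
      have hab : a = b := by
        rw [← cancel_mono iX, ← hth, reassoc_of% ha, reassoc_of% hb]
        exact congrArg (g ≫ ·) pullback.condition
      have h12 : g ≫ pullback.fst c c = g ≫ pullback.snd c c := by
        rw [← cancel_mono W.ι, Category.assoc, Category.assoc, ← ha, hab, hb]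
      have hg : g = (g ≫ pullback.fst c c) ≫ pullback.diagonal c := by
        apply pullback.hom_ext
        · simp
        · simp [h12]
      obtain ⟨y⟩ : Nonempty (Spec (R.residueField z)) := inferInstance
      refine ⟨(g ≫ pullback.fst c c) y, ?_⟩
      rw [← Scheme.Hom.comp_apply, ← hg, Scheme.fromSpecResidueField_apply]
    exact (Set.eq_empty_iff_forall_notMem.1 hemp z) fun ⟨y, hy⟩ => hz ⟨y, hy⟩
  haveI : Surjective c := ⟨by
    rw [← Set.range_eq_univ]
    refine Set.compl_empty_iff.1 (eq_empty_of_no_closedPoint p c.isOpenMap.isOpen_range.isClosed_compl ?_)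
    intro x hx hxc
    obtain ⟨a, rfl⟩ := (hrange x).2 hxc
    refine hx ⟨⟨t a, htW a⟩, ?_⟩
    rw [← hth, Scheme.Hom.comp_apply]
    rfl⟩
  haveI : IsIso c := Groth.Agent.S3709.isIso_of_etale_universallyInjective_surjective c
  refine ⟨W, ?_, ?_, ‹IsIso c›⟩
  · obtain ⟨a, ha⟩ := hvt
    exact ha ▸ htW a
  -- stability
  let s := inv c ≫ W.ι
  have hsh : s ≫ h = 𝟙 X := by simp [s, c]
  let tW : pullback p i₀ ⟶ W.toScheme := IsOpenImmersion.lift W.ι t (by
    rintro _ ⟨a, rfl⟩; rw [Scheme.Opens.range_ι]; exact htW a)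
  have htW' : tW ≫ W.ι = t := IsOpenImmersion.lift_fac _ _ _
  have hts : t = iX ≫ s := by
    have : tW ≫ c = iX := by simp only [c, reassoc_of% htW']; exact hth
    rw [← this, Category.assoc, IsIso.hom_inv_id_assoc, htW']
  have e : (pullback.fst p p ≫ s) ≫ h ≫ p = pullback.snd p p ≫ p := by
    rw [Category.assoc, reassoc_of% hsh, pullback.condition]
  let a₁ := A.act _ _ e
  let a₂ := pullback.snd p p ≫ s
  have heq : a₁ = a₂ := by
    let fR := pullback.fst p p ≫ p
    haveI : IsProper fR := inferInstanceAs (IsProper (pullback.fst p p ≫ p))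
    refine Groth.Pi1Etale.eq_of_comp_eq_of_clopen h a₁ a₂
      (by rw [A.act_hom, Category.assoc, hsh, Category.comp_id]) (pullback.fst fR i₀) ?_ fun C hC hsub => ?_
    · let e₀ := pullback.fst fR i₀
      let k := pullback.snd fR i₀
      let y₁ : pullback fR i₀ ⟶ pullback p i₀ :=
        pullback.lift (e₀ ≫ pullback.fst p p) k (by rw [Category.assoc]; exact pullback.condition)
      let y₂ : pullback fR i₀ ⟶ pullback p i₀ :=
        pullback.lift (e₀ ≫ pullback.snd p p) k (by
          rw [Category.assoc, ← pullback.condition (f := p) (g := p)]; exact pullback.condition)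
      have hy₁ : y₁ ≫ iX = e₀ ≫ pullback.fst p p := pullback.lift_fst _ _ _
      have hy₂ : y₂ ≫ iX = e₀ ≫ pullback.snd p p := pullback.lift_fst _ _ _
      have hk₁ : y₁ ≫ p₀ = k := pullback.lift_snd _ _ _
      have hk₂ : y₂ ≫ p₀ = k := pullback.lift_snd _ _ _
      have ea : (y₁ ≫ s₀) ≫ h₀ ≫ p₀ = y₂ ≫ p₀ := by
        rw [Category.assoc, reassoc_of% hs₀h, hk₁, hk₂]
      have key : (actBC A i₀).act (y₁ ≫ s₀) y₂ ea = y₂ ≫ s₀ := by
        apply hpb.hom_ext
        · rw [hinv _ _ _ ea, Category.assoc, Category.assoc, hs₀q, reassoc_of% hk₁, reassoc_of% hk₂]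
        · rw [Category.assoc, show s₀ ≫ pullback.snd h iX = 𝟙 _ from hs₀h, Category.comp_id]
          exact Act.act_hom _ _ _ _
      have key' := (Act.pullbackAct_w A _ _ (y₁ ≫ s₀) y₂ ea).symm.trans (congrArg (· ≫ w₀) key)
      rw [A.comp_act]
      refine Eq.trans (A.congr ?_ ?_ _ _) (key'.trans ?_)
      · rw [Category.assoc, show s₀ ≫ pullback.fst h iX = t from rfl, hts, reassoc_of% hy₁]
      · exact hy₂.symm
      · rw [Category.assoc, show s₀ ≫ pullback.fst h iX = t from rfl, hts, reassoc_of% hy₂]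
    · refine Set.compl_empty_iff.1 (eq_empty_of_no_closedPoint fR hC.2.isClosed_compl fun z hz hzc => ?_)
      refine hz (hsub ?_)
      rw [Scheme.Pullback.range_fst]
      exact ⟨IsLocalRing.closedPoint _, (closedPt_apply _).trans hzc.symm⟩
  intro T v' x e' hv' t'
  let l := IsOpenImmersion.lift W.ι v' (by
    rintro _ ⟨a, rfl⟩; rw [Scheme.Opens.range_ι]; exact hv' a)
  have hl : l ≫ W.ι = v' := IsOpenImmersion.lift_fac _ _ _
  have hvs : (v' ≫ h) ≫ s = v' := by
    rw [← hl]; simp [s, c]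
  let r : T ⟶ pullback p p := pullback.lift (v' ≫ h) x (by rw [Category.assoc]; exact e')
  have : A.act v' x e' = (x ≫ inv c) ≫ W.ι := by
    have h1 := congrArg (r ≫ ·) heq
    simp only [a₁, a₂, A.comp_act] at h1
    rw [Category.assoc]
    refine (A.congr ?_ (pullback.lift_snd _ _ _).symm _ _).trans (h1.trans ?_)
    · rw [pullback.lift_fst_assoc, Category.assoc] at *; exact hvs.symm
    · rw [pullback.lift_snd_assoc]
  rw [this, Scheme.Hom.comp_apply]
  exact ((x ≫ inv c) t').2

end Groth.Pi1EtDesc
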