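import Groth.Agent.Pi1Eff.Approx
import Groth.Agent.SpectralTopology.DescendFP
import Groth.Agent.Limits.SmoothDescent
import Groth.Agent.Limits.DescentStage

/-!
# Effectiveness along a limit of systems
-/

universe u

set_option autoImplicit false
set_option backward.isDefEq.respectTransparency false
set_option backward.defeqAttrib.useBackward true
set_option linter.style.haveILetI false

open CategoryTheory Limits AlgebraicGeometry

namespace Groth.Pi1EtDesc

open Groth.Pi1Desc Groth.SpectralTopology Groth.Limits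

variable {I : Type u} [SmallCategory I] [IsCofiltered I] {DX DS : I ⥤ Scheme.{u}} {τ : DX ⟶ DS}
  [∀ (i j : I) (m : i ⟶ j), IsAffineHom (DX.map m)] [∀ (i j : I) (m : i ⟶ j), IsAffineHom (DS.map m)]
  [∀ j, CompactSpace (DX.obj j)] [∀ j, QuasiSeparatedSpace (DX.obj j)]
  [∀ j, QuasiSeparatedSpace (DS.obj j)]

/-- A property of a model at a stage which passes to later stages. -/
theorem prop_pull {c : Cone DX} {V : Scheme.{u}} {h : V ⟶ c.pt} {i : I} (M : StageModel h i)
    (P : MorphismProperty Scheme.{u}) [P.IsStableUnderBaseChange] {j k : I} (φ : j ⟶ i) (ψ : k ⟶ j)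
    (hP : P (M.pull φ).hom) : P (M.pull (ψ ≫ φ)).hom :=
  MorphismProperty.of_isPullback (M.isPullback_trans ψ rfl) hP

/-- A property holding at the auxiliary stage holds for the pulled back model. -/
theorem prop_pull_of_stage {c : Cone DX} {V : Scheme.{u}} {h : V ⟶ c.pt} {i : I} (M : StageModel h i)
    (P : MorphismProperty Scheme.{u}) [P.IsStableUnderBaseChange] (j : Over i)
    (hP : P (pullback.snd M.hom (pullback.snd (DX.map j.hom) (𝟙 (DX.obj i))))) : P (M.pull j.hom).hom := by
  let r : DX.obj j.left ⟶ pullback (DX.map j.hom) (𝟙 (DX.obj i)) :=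
    pullback.lift (𝟙 _) (DX.map j.hom) (by simp)
  have sq : IsPullback (pullback.snd (DX.map j.hom) M.hom) (pullback.fst (DX.map j.hom) M.hom) M.hom
      (r ≫ pullback.snd (DX.map j.hom) (𝟙 _)) := by
    rw [pullback.lift_snd]; exact (IsPullback.of_hasPullback _ _).flip
  exact MorphismProperty.of_isPullback (IsPullback.of_right' sq (IsPullback.of_hasPullback _ _)) hP

/-- Effectiveness along every stage gives effectiveness along the limit. -/
theorem effAlong_of_stages {cX : Cone DX} (hcX : IsLimit cX) {cS : Cone DS} (hcS : IsLimit cS)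
    {p : cX.pt ⟶ cS.pt} (hp : ∀ j, p ≫ cS.π.app j = cX.π.app j ≫ τ.app j)
    (H : ∀ j, EffAlong sepEtQC (τ.app j)) : EffAlong sepEtQC p := by
  rintro V h ⟨⟨hh₁, hh₂⟩, hh₃⟩ A
  haveI := hh₁; haveI := hh₂; haveI := hh₃
  haveI : IsIso (𝟙 cX.pt) := IsIso.id _
  obtain ⟨i, ⟨M⟩⟩ := exists_stageModel hcX h
  haveI : CompactSpace M.obj := QuasiCompact.compactSpace_of_compactSpace M.hom
  have hY : IsPullback (cX.π.app i) (𝟙 cX.pt) (𝟙 (DX.obj i)) (cX.π.app i) :=
    IsPullback.of_vert_isIso ⟨by simp⟩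
  obtain ⟨j₁, hj₁⟩ := exists_prop_stage (f₀ := M.hom) @Etale ringDescends_etale
    (fun _ _ f (_ : IsOpenImmersion f) => inferInstance) hcX hY M.sq hh₁
  obtain ⟨j₂, hj₂⟩ := exists_isSeparated_stage (f₀ := M.hom) hcX hY M.sq
  obtain ⟨k, ψ₁, ψ₂, hψ⟩ := IsCofiltered.cospan j₁.hom j₂.hom
  have he := prop_pull M @Etale _ ψ₁ (prop_pull_of_stage M @Etale j₁ hj₁)
  have hs := prop_pull M @IsSeparated _ ψ₂ (prop_pull_of_stage M @IsSeparated j₂ hj₂)
  rw [← hψ] at hs
  set N := M.pull (ψ₁ ≫ j₁.hom)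
  haveI : CompactSpace N.obj := QuasiCompact.compactSpace_of_compactSpace N.hom
  haveI : QuasiSeparatedSpace N.obj := quasiSeparatedSpace_of_quasiSeparated N.hom
  -- work above `k`
  let F := Over.forget k
  let DV := pullbackDiagram DX k N.hom
  let η : DV ⟶ F ⋙ DX :=
    { app := fun j => pullback.fst (DX.map j.hom) N.hom
      naturality := fun a b m => pullback.lift_fst _ _ _ }
  haveI : ∀ (a b : Over k) (m : a ⟶ b), IsAffineHom ((F ⋙ DX).map m) := fun _ _ m =>
    inferInstanceAs (IsAffineHom (DX.map m.left))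
  haveI : ∀ (a b : Over k) (m : a ⟶ b), IsAffineHom ((F ⋙ DS).map m) := fun _ _ m =>
    inferInstanceAs (IsAffineHom (DS.map m.left))
  haveI : ∀ a, CompactSpace ((F ⋙ DX).obj a) := fun a => inferInstanceAs (CompactSpace (DX.obj a.left))
  haveI : ∀ a, QuasiSeparatedSpace ((F ⋙ DX).obj a) := fun a =>
    inferInstanceAs (QuasiSeparatedSpace (DX.obj a.left))
  haveI : ∀ a, QuasiSeparatedSpace ((F ⋙ DS).obj a) := fun a =>
    inferInstanceAs (QuasiSeparatedSpace (DS.obj a.left))
  haveI : ∀ a, CompactSpace (DV.obj a) := fun a =>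
    QuasiCompact.compactSpace_of_compactSpace (pullback.fst (DX.map a.hom) N.hom)
  haveI : ∀ a, QuasiSeparatedSpace (DV.obj a) := fun a =>
    quasiSeparatedSpace_of_quasiSeparated (pullback.fst (DX.map a.hom) N.hom)
  let cV := pullbackCone DX k N.hom cX
  have hcV : IsLimit cV := isLimitPullbackCone DX k N.hom hcX
  let h' : cV.pt ⟶ (cX.whisker F).pt := pullback.fst (cX.π.app k) N.hom
  let t : Over k := Over.mk (𝟙 k)
  have ht : IsTerminal t := Over.mkIdTerminal
  have hmap : ∀ a : Over k, (ht.from a).left = a.hom := fun a => by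
    simpa [t] using Over.w (ht.from a)
  have hcart : ∀ a, IsPullback (DV.map (ht.from a)) (η.app a) (η.app t) ((F ⋙ DX).map (ht.from a)) := by
    intro a
    refine IsPullback.of_right (h₁₂ := pullback.snd (DX.map (𝟙 k)) N.hom) (h₂₂ := DX.map (𝟙 k)) ?_
      (pullback.lift_fst _ _ _) (IsPullback.of_hasPullback _ _).flip
    have e1 : DV.map (ht.from a) ≫ pullback.snd (DX.map (𝟙 k)) N.hom = pullback.snd (DX.map a.hom) N.hom :=
      pullback.lift_snd _ _ _
    have e2 : (F ⋙ DX).map (ht.from a) ≫ DX.map (𝟙 k) = DX.map a.hom := by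
      simp [F, hmap a]
      rw [← DX.map_comp]
      exact congrArg DX.map (CategoryTheory.Category.comp_id _)
    rw [e1, e2]
    exact (IsPullback.of_hasPullback _ _).flip
  have hh : ∀ a, IsPullback (cV.π.app a) h' (η.app a) ((cX.whisker F).π.app a) := by
    intro a
    refine IsPullback.of_right (h₁₂ := pullback.snd (DX.map a.hom) N.hom) (h₂₂ := DX.map a.hom) ?_
      (pullback.lift_fst _ _ _) (IsPullback.of_hasPullback _ _).flip
    have e1 : cV.π.app a ≫ pullback.snd (DX.map a.hom) N.hom = pullback.snd (cX.π.app k) N.hom :=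
      pullback.lift_snd _ _ _
    have e2 : (cX.whisker F).π.app a ≫ DX.map a.hom = cX.π.app k := cX.w a.hom
    rw [e1, e2]
    exact (IsPullback.of_hasPullback _ _).flip
  haveI : LocallyOfFinitePresentation (η.app t) :=
    inferInstanceAs (LocallyOfFinitePresentation (pullback.fst (DX.map (𝟙 k)) N.hom))
  let w : cV.pt ⟶ V := N.sq.flip.isoPullback.inv
  have hw : w ≫ h = h' := N.sq.flip.isoPullback_inv_fst
  have pb : IsPullback w h' h (𝟙 cX.pt) := IsPullback.of_horiz_isIso ⟨by rw [hw]; exact (Category.comp_id _).symm⟩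
  refine effEt_of_iso_pullback A pb (p' := p) (s := 𝟙 _) (by simp) ?_
  refine effEt_of_system (η := η) (τ := Functor.whiskerLeft F τ) ht hcart hcV
    ((Functor.Initial.isLimitWhiskerEquiv F cX).symm hcX) (cS := cS.whisker F)
    ((Functor.Initial.isLimitWhiskerEquiv F cS).symm hcS) hh (fun a => hp a.left) (fun a B => ?_) _
  exact H a.left _ ⟨⟨MorphismProperty.pullback_fst _ _ he, MorphismProperty.pullback_fst _ _ hs⟩,
    MorphismProperty.pullback_fst _ _ N.qc⟩ B

end Groth.Pi1EtDesc
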