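import Groth.Agent.Pi1Eff.Noeth
import Groth.Agent.Pi1Eff.Stages
import Groth.Agent.Pi1Eff.Pieces
import Groth.Agent.HTopHyper.StdHDescent
import Groth.Agent.SpectralTopology.NoethSystem

/-!
# Effectiveness along proper surjections of finite presentation
-/

universe u

set_option autoImplicit false
set_option backward.isDefEq.respectTransparency false
set_option backward.defeqAttrib.useBackward true
set_option linter.style.haveILetI false

open CategoryTheory Limits AlgebraicGeometry

namespace Groth.Pi1EtDesc

open Groth.Pi1Desc Groth.SpectralTopology Groth.Limits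

/-- Effectiveness is insensitive to an isomorphism of the source. -/
theorem effAlong_iso_comp {P : MorphismProperty Scheme.{u}} [P.IsStableUnderBaseChange] {X X' S : Scheme.{u}}
    {p : X' ⟶ S} (hp : EffAlong P p) (e : X ⟶ X') [IsIso e] : EffAlong P (e ≫ p) := by
  intro V h hh A
  exact effEt_of_iso_pullback A (IsPullback.of_hasPullback h (inv e)) (p' := p) (s := 𝟙 S) (by simp)
    (hp _ (MorphismProperty.pullback_snd _ _ hh) _)

/-- Proper surjections of finite presentation, objects quasi-compact and separated. -/
theorem effAlong_proper {X S : Scheme.{u}} (p : X ⟶ S) [IsProper p] [Surjective p]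
    [LocallyOfFinitePresentation p] : EffAlong sepEtQC p := by
  refine effAlong_of_affine fun R b _ => ?_
  haveI : IsProper (pullback.snd p b) := MorphismProperty.pullback_snd _ _ ‹IsProper p›
  haveI : Surjective (pullback.snd p b) := MorphismProperty.pullback_snd _ _ ‹Surjective p›
  haveI : LocallyOfFinitePresentation (pullback.snd p b) :=
    MorphismProperty.pullback_snd _ _ ‹LocallyOfFinitePresentation p›
  generalize pullback.snd p b = g at *
  let D := fgSchemes R
  haveI : ∀ i, IsAffine (D.obj i) := fun i => inferInstanceAs (IsAffine (Spec _))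
  haveI : IsAffine (fgCone R).pt := inferInstanceAs (IsAffine (Spec _))
  obtain ⟨i, N, hN, hNs⟩ := Groth.HTopHyper.exists_properSurj_stageModel (isLimitFgCone R) g
  haveI := hN; haveI := hNs
  let F := Over.forget i
  let DX := pullbackDiagram D i N.hom
  let τ : DX ⟶ F ⋙ D :=
    { app := fun j => pullback.fst (D.map j.hom) N.hom
      naturality := fun _ _ _ => pullback.lift_fst _ _ _ }
  haveI : ∀ (a b : Over i) (m : a ⟶ b), IsAffineHom ((F ⋙ D).map m) := fun _ _ m =>
    inferInstanceAs (IsAffineHom (D.map m.left))
  haveI : ∀ a, QuasiSeparatedSpace ((F ⋙ D).obj a) := fun a =>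
    inferInstanceAs (QuasiSeparatedSpace (D.obj a.left))
  haveI : ∀ a, CompactSpace (DX.obj a) := fun a =>
    QuasiCompact.compactSpace_of_compactSpace (pullback.fst (D.map a.hom) N.hom)
  haveI : ∀ a, QuasiSeparatedSpace (DX.obj a) := fun a =>
    quasiSeparatedSpace_of_quasiSeparated (pullback.fst (D.map a.hom) N.hom)
  let e := N.sq.flip.isoPullback
  have he : e.hom ≫ pullback.fst ((fgCone R).π.app i) N.hom = g := N.sq.flip.isoPullback_hom_fst
  rw [← he]
  refine effAlong_iso_comp (effAlong_of_stages (τ := τ) (cX := pullbackCone D i N.hom (fgCone R))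
    (isLimitPullbackCone D i N.hom (isLimitFgCone R)) (cS := (fgCone R).whisker F)
    ((Functor.Initial.isLimitWhiskerEquiv F (fgCone R)).symm (isLimitFgCone R))
    (p := pullback.fst ((fgCone R).π.app i) N.hom) (fun j => (pullback.lift_fst _ _ _).symm) fun j => ?_) e.hom
  haveI : IsProper (τ.app j) := MorphismProperty.pullback_fst _ _ hN
  haveI : Surjective (τ.app j) := MorphismProperty.pullback_fst _ _ hNs
  haveI : IsLocallyNoetherian ((F ⋙ D).obj j) := (isNoetherian_fgSchemes R j.left).toIsLocallyNoetherian
  exact effAlong_proper_of_noetherian (τ.app j)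

/-- Proper surjections of finite presentation, separated objects. -/
theorem effAlong_sepEt_proper {X S : Scheme.{u}} (p : X ⟶ S) [IsProper p] [Surjective p]
    [LocallyOfFinitePresentation p] : EffAlong sepEt p := by
  refine effAlong_of_affine fun R b _ => ?_
  haveI : IsProper (pullback.snd p b) := MorphismProperty.pullback_snd _ _ ‹IsProper p›
  haveI : Surjective (pullback.snd p b) := MorphismProperty.pullback_snd _ _ ‹Surjective p›
  haveI : LocallyOfFinitePresentation (pullback.snd p b) :=
    MorphismProperty.pullback_snd _ _ ‹LocallyOfFinitePresentation p›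
  haveI : QuasiSeparatedSpace ↥(pullback p b) := quasiSeparatedSpace_of_quasiSeparated (pullback.snd p b)
  exact effAlong_sepEt_of_proper (effAlong_proper _)

end Groth.Pi1EtDesc
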