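import Groth.Agent.Pi1Eff.Proper
import Groth.Agent.Pi1Eff.Dictionary
import Groth.Agent.Misc8.SubtrNoeth
import Groth.Agent.HTopHyper.SubtrRefine
import Groth.Agent.Limits.RelApprox

/-!
# Effectiveness along subtrusive morphisms
-/

universe u

set_option autoImplicit false
set_option backward.isDefEq.respectTransparency false
set_option backward.defeqAttrib.useBackward true
set_option linter.style.haveILetI false

open CategoryTheory Limits AlgebraicGeometry TopologicalSpace

namespace Groth.Pi1EtDesc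

open Groth.Pi1Desc Groth.Misc8.Subtr Subtr

variable {X Y Z S : Scheme.{u}}

instance : (UnivSSubtrusive.{u}).IsStableUnderBaseChange :=
  inferInstanceAs (MorphismProperty.universally _).IsStableUnderBaseChange

theorem univSSubtrusive_comp {f : X ⟶ Y} {g : Y ⟶ Z} (hf : UnivSSubtrusive f)
    (hg : UnivSSubtrusive g) : UnivSSubtrusive (f ≫ g) := by
  rw [univ_iff_valuationRing_lift] at hf hg ⊢
  intro V _ _ _ c
  obtain ⟨V₁, _, _, _, a, b, hb, hab⟩ := hg V c
  obtain ⟨V₂, _, _, _, a', b', hb', hab'⟩ := hf V₁ a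
  refine ⟨V₂, inferInstance, inferInstance, inferInstance, a', b' ≫ b, inferInstance, ?_⟩
  rw [reassoc_of% hab', hab, Category.assoc]

theorem univSSubtrusive_of_comp {f : X ⟶ Y} {g : Y ⟶ Z} (h : UnivSSubtrusive (f ≫ g)) :
    UnivSSubtrusive g := by
  rw [univ_iff_valuationRing_lift] at h ⊢
  intro V _ _ _ c
  obtain ⟨V₁, _, _, _, a, b, hb, hab⟩ := h V c
  exact ⟨V₁, inferInstance, inferInstance, inferInstance, a ≫ f, b, hb, by rw [Category.assoc, hab]⟩

theorem univSSubtrusive_of_flat (f : X ⟶ Y) [Flat f] [Surjective f] : UnivSSubtrusive f := by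
  intro X' Y' i₁ i₂ f' sq y y' hy
  haveI : Flat f' := MorphismProperty.of_isPullback sq.flip ‹Flat f›
  haveI : Surjective f' := MorphismProperty.of_isPullback sq.flip ‹Surjective f›
  obtain ⟨x, rfl⟩ := f'.surjective y
  obtain ⟨x', hx', rfl⟩ := (Flat.generalizingMap f') hy
  exact ⟨x, x', hx', rfl, rfl⟩

theorem univSSubtrusive_of_universallyOpen (f : X ⟶ Y) [UniversallyOpen f] [Surjective f] :
    UnivSSubtrusive f := by
  intro X' Y' i₁ i₂ f' sq y y' hy
  haveI : UniversallyOpen f' := MorphismProperty.of_isPullback sq.flip ‹UniversallyOpen f›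
  haveI : Surjective f' := MorphismProperty.of_isPullback sq.flip ‹Surjective f›
  obtain ⟨x, rfl⟩ := f'.surjective y
  have hx : x ∈ closure (f' ⁻¹' {y'}) := mem_closure_iff.2 fun O hO hxO => by
    obtain ⟨z, hz, hz'⟩ := hy.mem_open (f'.isOpenMap O hO) ⟨x, hxO, rfl⟩
    exact ⟨z, hz, hz'⟩
  obtain ⟨x', hx', hfx'⟩ := exists_specializes_of_mem_closure_fibre f' y' hx
  exact ⟨x, x', hx', rfl, hfx'⟩

theorem univSSubtrusive_of_universallyClosed (f : X ⟶ Y) [UniversallyClosed f] [Surjective f] :
    UnivSSubtrusive f := by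
  intro X' Y' i₁ i₂ f' sq y y' hy
  haveI : UniversallyClosed f' := MorphismProperty.of_isPullback sq.flip ‹UniversallyClosed f›
  haveI : Surjective f' := MorphismProperty.of_isPullback sq.flip ‹Surjective f›
  obtain ⟨x', rfl⟩ := f'.surjective y'
  obtain ⟨x, hx, rfl⟩ := f'.isClosedMap.specializingMap hy
  exact ⟨x, x', hx, rfl, rfl⟩

theorem isUS_of_subtrusive (f : X ⟶ Y) [QuasiCompact f] (hf : UnivSSubtrusive f) : IsUS f :=
  ⟨univSubmersive_of_univSSubtrusive f hf⟩

theorem sepEtQC_le_etale : sepEtQC.{u} ≤ @Etale := fun _ _ _ h => h.1.1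

theorem sepEt_le_etale : sepEt.{u} ≤ @Etale := fun _ _ _ h => h.1

theorem effAlong_of_dominated {P : MorphismProperty Scheme.{u}} [P.IsStableUnderBaseChange]
    (hP : P ≤ @Etale) (f : X ⟶ Y) (g : Y ⟶ Z) [IsUS g] [IsUS (f ≫ g)] (hb : EffAlong P (f ≫ g)) :
    EffAlong P g := fun _ _ hh A => effEt_of_dominated hP A f hh hb

/-- Morphisms of finite presentation over an affine base. -/
theorem effAlong_fp_affine {R : CommRingCat.{u}} (f : X ⟶ Spec R) [LocallyOfFinitePresentation f]
    [QuasiCompact f] (hf : UnivSSubtrusive f) : EffAlong sepEtQC f ∧ EffAlong sepEt f := by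
  obtain ⟨X', Y', h, p, q, e, hp1, hp2, hp3, hp4, hp5, -, hq1, hq2, hq3⟩ :=
    Groth.HTopHyper.SubtrRefine.exists_openCover_then_proper f (Or.inl inferInstance) hf
  haveI : QuasiSeparatedSpace Y' := quasiSeparatedSpace_of_quasiSeparated q
  haveI : QuasiSeparatedSpace X' := quasiSeparatedSpace_of_quasiSeparated p
  haveI := isUS_comp p q
  haveI : IsUS (h ≫ f) := e ▸ inferInstance
  haveI := isUS_of_subtrusive f hf
  have h1 : EffAlong sepEtQC (p ≫ q) :=
    effAlong_comp sepEtQC_le_etale sepEtQC_desc p q (effAlong_of_flat p) (effAlong_proper q)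
  have h2 : EffAlong sepEt (p ≫ q) :=
    effAlong_comp sepEt_le_etale sepEt_desc p q
      (effAlong_sepEt_of_universallyOpen (effAlong_of_flat p)) (effAlong_sepEt_proper q)
  rw [← e] at h1 h2
  exact ⟨effAlong_of_dominated sepEtQC_le_etale h f h1, effAlong_of_dominated sepEt_le_etale h f h2⟩

/-- Quasi-compact subtrusive morphisms, objects separated and quasi-compact. -/
theorem effAlong_of_subtrusive (g : X ⟶ S) [QuasiCompact g] (hg : UnivSSubtrusive g) :
    EffAlong sepEtQC g := by
  haveI := isUS_of_subtrusive g hg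
  refine effAlong_of_affine fun R b _ => ?_
  have hf : UnivSSubtrusive (pullback.snd g b) := MorphismProperty.pullback_snd _ _ hg
  haveI : QuasiCompact (pullback.snd g b) := MorphismProperty.pullback_snd _ _ ‹QuasiCompact g›
  generalize pullback.snd g b = f at *
  haveI : CompactSpace ↥(pullback g b) := QuasiCompact.compactSpace_of_compactSpace f
  obtain ⟨B, c, hc1, hc2⟩ := exists_affine_cover (pullback g b)
  have hcf : UnivSSubtrusive (c ≫ f) := univSSubtrusive_comp (univSSubtrusive_of_flat c) hf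
  haveI : QuasiCompact (c ≫ f) := quasiCompact_of_compactSpace _
  haveI := isUS_of_subtrusive _ hf
  haveI := isUS_of_subtrusive _ hcf
  refine effAlong_of_dominated sepEtQC_le_etale c f ?_
  obtain ⟨R'⟩ := Groth.Limits.exists_relSystem (c ≫ f)
  let DS : R'.Iᵒᵖ ⥤ Scheme.{u} := (Functor.const R'.Iᵒᵖ).obj (Spec R)
  let cS : Cone DS := { pt := Spec R, π := 𝟙 _ }
  haveI : Nonempty R'.Iᵒᵖ := ⟨Opposite.op (Classical.arbitrary R'.I)⟩
  let hcS : IsLimit cS :=
    { lift := fun s => s.π.app (Classical.arbitrary _)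
      fac := fun s j => by
        obtain ⟨k, α, β, -⟩ := IsCofilteredOrEmpty.cone_objs (Classical.arbitrary R'.Iᵒᵖ) j
        have h1 := s.w α
        have h2 := s.w β
        simp only [DS, Functor.const_obj_map] at h1 h2
        simp only [cS, NatTrans.id_app]
        exact (Category.comp_id _).trans (h1.symm.trans h2)
      uniq := fun s m hm => by
        simpa [cS] using hm (Classical.arbitrary _) }
  haveI : ∀ (i j : R'.Iᵒᵖ) (m : i ⟶ j), IsAffineHom (R'.left.map m) := fun _ _ m =>
    R'.isAffineHom_left_map m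
  haveI : ∀ (i j : R'.Iᵒᵖ) (m : i ⟶ j), IsAffineHom (DS.map m) := fun _ _ m =>
    inferInstanceAs (IsAffineHom (𝟙 (Spec R)))
  haveI : ∀ j, CompactSpace (R'.left.obj j) := fun j => R'.compact j
  haveI : ∀ j, QuasiSeparatedSpace (DS.obj j) := fun j => inferInstanceAs (QuasiSeparatedSpace (Spec R))
  haveI : ∀ j, QuasiSeparatedSpace (R'.left.obj j) := fun j =>
    haveI := R'.quasiSeparated j
    quasiSeparatedSpace_of_quasiSeparated (R'.D.obj j).hom
  refine effAlong_of_stages (τ := R'.structureMap) R'.isLimitLeftCone (cS := cS) hcS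
    (p := c ≫ f) (fun j => ?_) fun j => ?_
  · exact (Category.comp_id _).trans (R'.π_structureMap j).symm
  · haveI := R'.locallyOfFinitePresentation j
    haveI := R'.quasiCompact j
    refine (effAlong_fp_affine (R'.D.obj j).hom ?_).1
    exact univSSubtrusive_of_comp (f := (R'.π.app j).left) (by rw [Over.w (R'.π.app j)]; exact hcf)

/-- Subtrusive morphisms of finite presentation, separated objects. -/
theorem effAlong_sepEt_of_subtrusive (g : X ⟶ S) [QuasiCompact g] [LocallyOfFinitePresentation g]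
    (hg : UnivSSubtrusive g) : EffAlong sepEt g := by
  haveI := isUS_of_subtrusive g hg
  refine effAlong_of_affine fun R b _ => ?_
  haveI : QuasiCompact (pullback.snd g b) := MorphismProperty.pullback_snd _ _ ‹QuasiCompact g›
  haveI : LocallyOfFinitePresentation (pullback.snd g b) :=
    MorphismProperty.pullback_snd _ _ ‹LocallyOfFinitePresentation g›
  exact (effAlong_fp_affine _ (MorphismProperty.pullback_snd _ _ hg)).2

/-- Universally open surjections, separated objects. -/
theorem effAlong_sepEt_of_univOpen (g : X ⟶ S) [UniversallyOpen g] [Surjective g]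
    [QuasiSeparatedSpace X] : EffAlong sepEt g := by
  refine effAlong_of_affine fun R b _ => ?_
  let f := pullback.snd g b
  haveI : UniversallyOpen f := MorphismProperty.pullback_snd _ _ ‹UniversallyOpen g›
  haveI : Surjective f := MorphismProperty.pullback_snd _ _ ‹Surjective g›
  haveI : QuasiSeparatedSpace ↥(pullback g b) :=
    .of_isOpenEmbedding (pullback.fst g b).isOpenEmbedding
  let W : (pullback g b).affineOpens → Set ↥(Spec R) := fun U => f '' (U.1 : Set ↥(pullback g b))
  obtain ⟨t, ht⟩ := isCompact_univ.elim_finite_subcover W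
    (fun U => f.isOpenMap _ U.1.isOpen) (fun y _ => by
      obtain ⟨x, rfl⟩ := f.surjective y
      obtain ⟨_, ⟨U, hU, rfl⟩, hx, -⟩ :=
        (pullback g b).isBasis_affineOpens.exists_subset_of_mem_open (Set.mem_univ x) isOpen_univ
      exact Set.mem_iUnion.2 ⟨⟨U, hU⟩, x, hx, rfl⟩)
  let c := Sigma.desc fun U : t => U.1.1.ι
  haveI : ∀ U : t, IsAffine U.1.1.toScheme := fun U => U.1.2
  haveI : Flat c := IsZariskiLocalAtSource.sigmaDesc fun _ => inferInstance
  haveI : LocallyOfFinitePresentation c := IsZariskiLocalAtSource.sigmaDesc fun _ => inferInstance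
  haveI : UniversallyOpen (c ≫ f) := inferInstance
  haveI : Surjective (c ≫ f) := ⟨fun y => by
    obtain ⟨U, hU, x, hx, rfl⟩ := Set.mem_iUnion₂.1 (ht (Set.mem_univ y))
    refine ⟨Sigma.ι (fun U : t => U.1.1.toScheme) ⟨U, hU⟩ ⟨x, hx⟩, ?_⟩
    rw [← Scheme.Hom.comp_apply, Sigma.ι_desc_assoc]
    rfl⟩
  haveI : QuasiCompact (c ≫ f) := quasiCompact_of_compactSpace _
  exact effAlong_of_dominated sepEt_le_etale c f (effAlong_sepEt_of_universallyOpen
    (effAlong_of_subtrusive _ (univSSubtrusive_of_universallyOpen _)))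

end Groth.Pi1EtDesc
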